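import Cfsg.Agent.Lib.SuzukiTwo.Layers

/-!
Higman's analysis of Suzuki 2-groups (set-up and layers), for a cyclic automorphism group which
only acts on the involutions with large order instead of transitively; after Lib/SuzukiTwo.
-/

set_option autoImplicit false

open scoped commutatorElement
open Cfsg.Agent.SuzukiTwo (autSum_injective exists_autSum exists_biadd zmod_two_cases)
open scoped Cfsg.Agent.SuzukiTwo

namespace Cfsg.Agent.SuzukiGross

/-- A 2-group `P` with an automorphism `g` whose action on the involutions (all central) is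
multiplication by an element `ω` of a field `F` of sufficiently large multiplicative order. -/
structure GrossData (P : Type*) [Group P] (F : Type*) [Field F] where
  g : MulAut P
  ι : P → F
  ω : F
  finite : Finite P
  pgroup : IsPGroup 2 P
  central : ∀ v : P, v * v = 1 → v ∈ Subgroup.center P
  ι_mul : ∀ v w : P, v * v = 1 → w * w = 1 → ι (v * w) = ι v + ι w
  ι_eq_zero : ∀ v : P, v * v = 1 → ι v = 0 → v = 1
  ι_surj : ∀ x : F, ∃ v : P, v * v = 1 ∧ ι v = x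
  ι_g : ∀ v : P, v * v = 1 → ι (g v) = ω * ι v
  ω_ne_zero : ω ≠ 0
  ω_ne_one : ω ≠ 1
  nonabelian : ∃ x y : P, x * y ≠ y * x
  span : ∀ (W : AddSubgroup F) (x₀ : F), x₀ ≠ 0 → x₀ ∈ W → (∀ x ∈ W, ω * x ∈ W) → ∀ x, x ∈ W
  aut_ext' : ∀ σ τ : F ≃+* F, σ ω = τ ω → σ = τ
  prodOne : ∀ σ τ : F ≃+* F, σ ω * τ ω = ω → σ = τ
  weight : ∀ s σ τ : F ≃+* F, s ω * τ ω = ω * s (σ ω) → σ = τ
  frob : ∀ σ : F ≃+* F, ∃ i : ℕ, ∀ x, σ x = x ^ i
  finiteOrder : 0 < orderOf ω

namespace GrossData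

variable {P : Type*} [Group P] {F : Type*} [Field F] (d : GrossData P F)

include d

lemma comm_of_sq_one {v : P} (hv : v * v = 1) (x : P) : x * v = v * x :=
  Subgroup.mem_center_iff.1 (d.central v hv) x

lemma ι_one : d.ι 1 = 0 := by
  have h := d.ι_mul 1 1 (by simp) (by simp)
  rw [mul_one] at h
  linear_combination -h

lemma sq_one_mul {v w : P} (hv : v * v = 1) (hw : w * w = 1) : v * w * (v * w) = 1 := by
  calc v * w * (v * w) = v * (w * v) * w := by group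
    _ = v * (v * w) * w := by rw [d.comm_of_sq_one hv w]
    _ = (v * v) * (w * w) := by group
    _ = 1 := by rw [hv, hw, mul_one]

lemma ι_inj {v w : P} (hv : v * v = 1) (hw : w * w = 1) (h : d.ι v = d.ι w) : v = w := by
  have hw' : w⁻¹ = w := inv_eq_of_mul_eq_one_left hw
  have h2 := d.ι_eq_zero (v * w) (d.sq_one_mul hv hw) ?_
  · rw [eq_inv_of_mul_eq_one_left h2, hw']
  · rw [d.ι_mul v w hv hw, h]
    have h3 := d.ι_mul w w hw hw
    rw [hw, d.ι_one] at h3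
    exact h3.symm

/-- The subgroup of elements of order at most two. -/
def V (d : GrossData P F) : Subgroup P where
  carrier := {v | v * v = 1}
  one_mem' := by simp
  mul_mem' hv hw := d.sq_one_mul hv hw
  inv_mem' {v} hv := by
    show v⁻¹ * v⁻¹ = 1
    rw [← mul_inv_rev, show v * v = 1 from hv, inv_one]

lemma mem_V {v : P} : v ∈ d.V ↔ v * v = 1 := Iff.rfl

/-- A subgroup invariant under `g`. -/
def Inv (d : GrossData P F) (H : Subgroup P) : Prop := ∀ x ∈ H, d.g x ∈ H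

lemma inv_V : d.Inv d.V := fun v hv => by
  rw [d.mem_V] at hv ⊢
  rw [← map_mul, hv, map_one]

lemma normal_V : d.V.Normal := ⟨fun v hv x => by
  rw [d.comm_of_sq_one hv x, mul_inv_cancel_right]; exact hv⟩

lemma g_pow_mem {H : Subgroup P} (hH : d.Inv H) (j : ℕ) {x : P} (hx : x ∈ H) :
    (d.g ^ j) x ∈ H := by
  induction j with
  | zero => simpa using hx
  | succ j ih => rw [pow_succ']; exact hH _ ih

lemma ι_g_pow (j : ℕ) {v : P} (hv : v * v = 1) : d.ι ((d.g ^ j) v) = d.ω ^ j * d.ι v := by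
  induction j with
  | zero => simp
  | succ j ih =>
    rw [pow_succ', MulAut.mul_apply, d.ι_g, ih, pow_succ']
    · ring
    · rw [← map_mul, hv, map_one]

/-- An automorphism is determined by the image of `ω`. -/
lemma aut_ext {σ τ : F ≃+* F} (h : σ d.ω = τ d.ω) : σ = τ := d.aut_ext' σ τ h

/-- `A` is a normal invariant homocyclic subgroup of exponent `2 ^ k` containing all involutions. -/
structure Homo (d : GrossData P F) (A : Subgroup P) (k : ℕ) : Prop where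
  normal : A.Normal
  inv : d.Inv A
  comm : ∀ a ∈ A, ∀ b ∈ A, a * b = b * a
  one_le : 1 ≤ k
  exp : ∀ a ∈ A, a ^ 2 ^ k = 1
  top : ∀ v : P, v * v = 1 → ∃ a ∈ A, a ^ 2 ^ (k - 1) = v

variable {d} {A : Subgroup P} {k : ℕ}

lemma Homo.mul_pow (hA : d.Homo A k) {a b : P} (ha : a ∈ A) (hb : b ∈ A) (m : ℕ) :
    (a * b) ^ m = a ^ m * b ^ m :=
  Commute.mul_pow (hA.comm a ha b hb) m

lemma Homo.root (hA : d.Homo A k) : ∀ (i : ℕ) {a : P}, i ≤ k → a ∈ A → a ^ 2 ^ i = 1 →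
    ∃ b ∈ A, b ^ 2 ^ (k - i) = a := by
  intro i
  induction i with
  | zero =>
    intro a _ ha h
    exact ⟨1, one_mem A, by rw [one_pow]; simpa using h.symm⟩
  | succ i ih =>
    intro a hik ha h
    obtain ⟨c, hc, hca⟩ := hA.top (a ^ 2 ^ i) (by rw [← pow_add, ← two_mul, ← pow_succ']; exact h)
    have hki : k - i = k - (i + 1) + 1 := by omega
    obtain ⟨b, hb, hba⟩ := ih (a := a * (c ^ 2 ^ (k - (i + 1)))⁻¹) (by omega)
      (mul_mem ha (inv_mem (pow_mem hc _))) (by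
        rw [hA.mul_pow ha (inv_mem (pow_mem hc _)), inv_pow, ← pow_mul, ← pow_add,
          show k - (i + 1) + i = k - 1 by omega, hca, mul_inv_cancel])
    refine ⟨b ^ 2 * c, mul_mem (pow_mem hb _) hc, ?_⟩
    rw [hA.mul_pow (pow_mem hb _) hc, ← pow_mul, ← pow_succ', ← hki, hba]
    group

/-- The coordinate of `a ∈ A` modulo squares. -/
def pi (d : GrossData P F) (k : ℕ) (a : P) : F := d.ι (a ^ 2 ^ (k - 1))

lemma Homo.top_sq (hA : d.Homo A k) {a : P} (ha : a ∈ A) :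
    a ^ 2 ^ (k - 1) * a ^ 2 ^ (k - 1) = 1 := by
  have := hA.one_le
  rw [← pow_add, ← two_mul, ← pow_succ', show k - 1 + 1 = k by omega]
  exact hA.exp a ha

lemma Homo.pi_mul (hA : d.Homo A k) {a b : P} (ha : a ∈ A) (hb : b ∈ A) :
    d.pi k (a * b) = d.pi k a + d.pi k b := by
  rw [pi, hA.mul_pow ha hb, d.ι_mul _ _ (hA.top_sq ha) (hA.top_sq hb)]
  rfl

lemma Homo.pi_surj (hA : d.Homo A k) (x : F) : ∃ a ∈ A, d.pi k a = x := by
  obtain ⟨v, hv, rfl⟩ := d.ι_surj x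
  obtain ⟨a, ha, rfl⟩ := hA.top v hv
  exact ⟨a, ha, rfl⟩

lemma Homo.exists_sq (hA : d.Homo A k) {a : P} (ha : a ∈ A) (h : d.pi k a = 0) :
    ∃ b ∈ A, b * b = a := by
  have := hA.one_le
  obtain ⟨b, hb, hba⟩ := hA.root (k - 1) (by omega) ha (d.ι_eq_zero _ (hA.top_sq ha) h)
  refine ⟨b, hb, ?_⟩
  rw [show k - (k - 1) = 1 by omega, pow_one, pow_two] at hba
  exact hba

lemma Homo.pi_sq (hA : d.Homo A k) {b : P} (hb : b ∈ A) : d.pi k (b * b) = 0 := by
  rw [pi, hA.mul_pow hb hb, hA.top_sq hb, d.ι_one]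

lemma Homo.pi_g (hA : d.Homo A k) {a : P} (ha : a ∈ A) : d.pi k (d.g a) = d.ω * d.pi k a := by
  rw [pi, ← map_pow, d.ι_g _ (hA.top_sq ha)]
  rfl

lemma Homo.V_le (hA : d.Homo A k) : d.V ≤ A := fun v hv => by
  obtain ⟨a, ha, rfl⟩ := hA.top v hv
  exact pow_mem ha _

variable (d)

lemma exists_involution : ∃ v : P, v * v = 1 ∧ v ≠ 1 := by
  obtain ⟨v, hv, hv1⟩ := d.ι_surj 1
  exact ⟨v, hv, fun h => one_ne_zero (α := F) (by rw [← hv1, h, d.ι_one])⟩

lemma exists_homo {A : Subgroup P} (hn : A.Normal) (hi : d.Inv A)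
    (hc : ∀ a ∈ A, ∀ b ∈ A, a * b = b * a) (hV : d.V ≤ A) : ∃ k, d.Homo A k := by
  haveI := d.finite
  classical
  have hex : ∃ k, ∀ a ∈ A, a ^ 2 ^ k = 1 := by
    obtain ⟨m, hm⟩ := IsPGroup.iff_card.1 d.pgroup
    exact ⟨m, fun a _ => by rw [← hm]; exact pow_card_eq_one'⟩
  obtain ⟨v, hv, hv1⟩ := d.exists_involution
  have h1 : 1 ≤ Nat.find hex := by
    refine Nat.one_le_iff_ne_zero.2 fun h0 => hv1 ?_
    have := Nat.find_spec hex v (hV hv)
    rw [h0] at this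
    simpa using this
  refine ⟨Nat.find hex, hn, hi, hc, h1, Nat.find_spec hex, fun w hw => ?_⟩
  obtain ⟨a, ha, ha1⟩ : ∃ a ∈ A, a ^ 2 ^ (Nat.find hex - 1) ≠ 1 := by
    have := Nat.find_min hex (m := Nat.find hex - 1) (by omega)
    simp only [not_forall] at this
    obtain ⟨a, ha, ha1⟩ := this
    exact ⟨a, ha, ha1⟩
  have hu : a ^ 2 ^ (Nat.find hex - 1) * a ^ 2 ^ (Nat.find hex - 1) = 1 := by
    rw [← pow_add, ← two_mul, ← pow_succ', show Nat.find hex - 1 + 1 = Nat.find hex by omega]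
    exact Nat.find_spec hex a ha
  by_cases hw0 : w = 1
  · exact ⟨1, one_mem A, by rw [hw0, one_pow]⟩
  let W : AddSubgroup F :=
    { carrier := {x | ∃ c ∈ A, ∃ _ : c ^ 2 ^ (Nat.find hex - 1) * c ^ 2 ^ (Nat.find hex - 1) = 1,
        d.ι (c ^ 2 ^ (Nat.find hex - 1)) = x}
      zero_mem' := ⟨1, one_mem A, by simp, by rw [one_pow, d.ι_one]⟩
      add_mem' := by
        rintro x y ⟨c, hc', h1, rfl⟩ ⟨c', hc'', h2, rfl⟩
        have e : (c * c') ^ 2 ^ (Nat.find hex - 1) =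
            c ^ 2 ^ (Nat.find hex - 1) * c' ^ 2 ^ (Nat.find hex - 1) :=
          Commute.mul_pow (hc c hc' c' hc'') _
        exact ⟨c * c', mul_mem hc' hc'', by rw [e]; exact d.sq_one_mul h1 h2,
          by rw [e, d.ι_mul _ _ h1 h2]⟩
      neg_mem' := by
        rintro x ⟨c, hc', h1, rfl⟩
        have h2 : (c ^ 2 ^ (Nat.find hex - 1))⁻¹ = c ^ 2 ^ (Nat.find hex - 1) :=
          inv_eq_of_mul_eq_one_left h1
        have h3 := d.ι_mul _ _ h1 h1
        rw [h1, d.ι_one] at h3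
        exact ⟨c, hc', h1, eq_neg_of_add_eq_zero_left h3.symm⟩ }
  obtain ⟨c, hc', h1, hcw⟩ := d.span W _ (fun h => ha1 (d.ι_eq_zero _ hu h)) ⟨a, ha, hu, rfl⟩
    (by
      rintro x ⟨c, hc', h1, rfl⟩
      exact ⟨d.g c, hi c hc', by rw [← map_pow, ← map_mul, h1, map_one],
        by rw [← map_pow, d.ι_g _ h1]⟩) (d.ι w)
  exact ⟨c, hc', d.ι_inj h1 hw hcw⟩

/-- `B` is a minimal normal invariant subgroup above `A`: elementary abelian and central in `P ⧸ A`
with no invariant subgroup strictly in between. -/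
structure Step (d : GrossData P F) (A B : Subgroup P) : Prop where
  lt : A < B
  inv : d.Inv B
  normal : B.Normal
  sq_mem : ∀ y ∈ B, y * y ∈ A
  comm_mem : ∀ p : P, ∀ y ∈ B, ⁅p, y⁆ ∈ A
  irred : ∀ C : Subgroup P, A ≤ C → C ≤ B → d.Inv C → C = A ∨ C = B

lemma exists_step {A C : Subgroup P} (hAn : A.Normal) (hAi : d.Inv A) (hCn : C.Normal)
    (hCi : d.Inv C) (hlt : A < C) : ∃ B, d.Step A B ∧ B ≤ C := by
  haveI := d.finite
  haveI := Fact.mk Nat.prime_two
  haveI := hCn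
  let π := QuotientGroup.mk' A
  haveI : (C.map π).Normal := hCn.map π (QuotientGroup.mk'_surjective A)
  have hne : C.map π ≠ ⊥ := by
    intro h
    rw [Subgroup.map_eq_bot_iff, QuotientGroup.ker_mk'] at h
    exact hlt.not_ge h
  obtain ⟨z, hzC, hz, hzo⟩ := PGroup.exists_central_order_p (d.pgroup.to_quotient A) hne
  let Z : Subgroup P :=
    { carrier := {x | x ∈ C ∧ x * x ∈ A ∧ ∀ p, ⁅p, x⁆ ∈ A}
      one_mem' := ⟨one_mem C, by simp, fun p => by simp⟩
      mul_mem' := by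
        rintro x y ⟨hx, hx2, hxc⟩ ⟨hy, hy2, hyc⟩
        refine ⟨mul_mem hx hy, ?_, fun p => ?_⟩
        · have : x * y * (x * y) = (x * x) * (x⁻¹ * ⁅y, x⁆ * x) * (y * y) := by
            rw [commutatorElement_def]; group
          rw [this]
          refine mul_mem (mul_mem hx2 ?_) hy2
          simpa using hAn.conj_mem _ (hxc y) x⁻¹
        · have : ⁅p, x * y⁆ = ⁅p, x⁆ * (x * ⁅p, y⁆ * x⁻¹) := by
            simp only [commutatorElement_def]; group
          rw [this]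
          exact mul_mem (hxc p) (hAn.conj_mem _ (hyc p) x)
      inv_mem' := by
        rintro x ⟨hx, hx2, hxc⟩
        refine ⟨inv_mem hx, ?_, fun p => ?_⟩
        · rw [← mul_inv_rev]; exact inv_mem hx2
        · have : ⁅p, x⁻¹⁆ = x⁻¹ * ⁅p, x⁆⁻¹ * x := by simp only [commutatorElement_def]; group
          rw [this]
          simpa using hAn.conj_mem _ (inv_mem (hxc p)) x⁻¹ }
  have hZi : d.Inv Z := by
    rintro x ⟨hx, hx2, hxc⟩
    refine ⟨hCi x hx, ?_, fun p => ?_⟩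
    · rw [← map_mul]; exact hAi _ hx2
    · rw [← d.g.apply_symm_apply p, ← map_commutatorElement]
      exact hAi _ (hxc _)
  have hAZ : A < Z := by
    have hle : A ≤ Z := fun a ha => ⟨hlt.le ha, mul_mem ha ha, fun p => by
      rw [commutatorElement_def]; exact mul_mem (hAn.conj_mem a ha p) (inv_mem ha)⟩
    obtain ⟨x, hx, rfl⟩ := hzC
    suffices hxZ : (x * x ∈ A ∧ ∀ p, ⁅p, x⁆ ∈ A) ∧ x ∉ A by
      have hmem : x ∈ Z := ⟨hx, hxZ.1⟩
      exact SetLike.lt_iff_le_and_exists.2 ⟨hle, x, hmem, hxZ.2⟩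
    refine ⟨⟨?_, fun p => ?_⟩, fun hxA => ?_⟩
    · have := pow_orderOf_eq_one (π x)
      rw [hzo, pow_two, ← map_mul] at this
      exact (QuotientGroup.eq_one_iff _).1 this
    · have := Subgroup.mem_center_iff.1 hz (π p)
      refine (QuotientGroup.eq_one_iff _).1 ?_
      show π ⁅p, x⁆ = 1
      rw [map_commutatorElement, commutatorElement_eq_one_iff_mul_comm]
      exact this
    · rw [show π x = 1 from (QuotientGroup.eq_one_iff x).2 hxA, orderOf_one] at hzo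
      exact absurd hzo (by norm_num)
  obtain ⟨B, -, hB⟩ := Finite.exists_le_minimal
    (p := fun B : Subgroup P => A < B ∧ B ≤ Z ∧ d.Inv B) ⟨hAZ, le_rfl, hZi⟩
  obtain ⟨hAB, hBZ, hBi⟩ := hB.prop
  refine ⟨B, ⟨hAB, hBi, ⟨fun y hy p => ?_⟩, fun y hy => (hBZ hy).2.1,
    fun p y hy => (hBZ hy).2.2 p, fun D hAD hDB hDi => ?_⟩, fun y hy => (hBZ hy).1⟩
  · rw [show p * y * p⁻¹ = ⁅p, y⁆ * y by rw [commutatorElement_def]; group]
    exact mul_mem (hAB.le ((hBZ hy).2.2 p)) hy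
  · rcases eq_or_lt_of_le hAD with h | h
    · exact Or.inl h.symm
    · exact Or.inr (le_antisymm hDB (hB.le_of_le ⟨h, hDB.trans hBZ, hDi⟩ hDB))

end GrossData

variable {F : Type*} [Field F] [Fintype F] [CharP F 2]

namespace GrossData

variable {P : Type*} [Group P] {d : GrossData P F}

/-- The weight of the coefficient `σ`. -/
def lam (d : GrossData P F) (σ : F ≃+* F) : F := d.ω / σ d.ω

lemma lam_ne_zero (σ : F ≃+* F) : d.lam σ ≠ 0 :=
  div_ne_zero d.ω_ne_zero (fun h => d.ω_ne_zero (σ.map_eq_zero_iff.1 h))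

lemma lam_eq_one {σ : F ≃+* F} (h : d.lam σ = 1) : σ = RingEquiv.refl F := by
  refine d.aut_ext ?_
  rw [lam, div_eq_one_iff_eq (fun h => d.ω_ne_zero (σ.map_eq_zero_iff.1 h))] at h
  exact h.symm

/-- Distinct coefficients have non-conjugate weights. -/
lemma lam_conj {σ τ : F ≃+* F} (s : F ≃+* F) (h : s (d.lam σ) = d.lam τ) : σ = τ := by
  have hω := d.ω_ne_zero
  have h1 : s d.ω * τ d.ω = d.ω * s (σ d.ω) := by
    have hσ : s (σ d.ω) ≠ 0 := fun h => hω (σ.map_eq_zero_iff.1 (s.map_eq_zero_iff.1 h))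
    have hτ : τ d.ω ≠ 0 := fun h => hω (τ.map_eq_zero_iff.1 h)
    rw [lam, lam, map_div₀, div_eq_div_iff hσ hτ] at h
    exact h
  exact d.weight s σ τ h1

/-- A subring of `Aut → F` containing the weights contains the coordinate idempotents. -/
lemma single_mem (R : Subring ((F ≃+* F) → F)) (hR : (fun σ => d.lam σ) ∈ R) (σ₀ : F ≃+* F) :
    ∃ r ∈ R, r σ₀ = 1 ∧ ∀ τ, τ ≠ σ₀ → r τ = 0 := by
  classical
  letI := ZMod.algebra F 2
  haveI : Fact (Nat.Prime 2) := ⟨Nat.prime_two⟩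
  have heval : ∀ p : Polynomial (ZMod 2), (fun σ => Polynomial.aeval (d.lam σ) p) ∈ R := by
    intro p
    induction p using Polynomial.induction_on with
    | C c =>
      simp only [Polynomial.aeval_C]
      rcases zmod_two_cases c with rfl | rfl
      · simp only [map_zero]; exact R.zero_mem
      · simp only [map_one]; exact R.one_mem
    | add p q hp hq => simp only [map_add]; exact R.add_mem hp hq
    | monomial m c h =>
      simp only [pow_succ, ← mul_assoc, map_mul, Polynomial.aeval_X] at h ⊢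
      exact R.mul_mem h hR
  have hq : ∀ τ, τ ≠ σ₀ → Polynomial.aeval (d.lam σ₀) (minpoly (ZMod 2) (d.lam τ)) ≠ 0 := by
    intro τ hτ h0
    have hint : IsIntegral (ZMod 2) (d.lam τ) := Algebra.IsIntegral.isIntegral _
    have heq := minpoly.eq_of_irreducible_of_monic (minpoly.irreducible hint) h0 (minpoly.monic hint)
    obtain ⟨s, hs⟩ := (Normal.minpoly_eq_iff_mem_orbit F).1 heq
    exact hτ (lam_conj s.toRingEquiv hs).symm
  let r : (F ≃+* F) → F := fun σ => (∏ τ ∈ Finset.univ.erase σ₀,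
    Polynomial.aeval (d.lam σ) (minpoly (ZMod 2) (d.lam τ))) ^ (Fintype.card F - 1)
  refine ⟨r, ?_, ?_, fun τ hτ => ?_⟩
  · have : r = (∏ τ ∈ Finset.univ.erase σ₀,
        fun σ => Polynomial.aeval (d.lam σ) (minpoly (ZMod 2) (d.lam τ))) ^ (Fintype.card F - 1) := by
      funext σ
      simp [r, Finset.prod_apply]
    rw [this]
    exact R.pow_mem (prod_mem fun τ _ => heval _) _
  · exact FiniteField.pow_card_sub_one_eq_one _
      (Finset.prod_ne_zero_iff.2 fun τ hτ => hq τ (Finset.ne_of_mem_erase hτ))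
  · have hz : ∏ ρ ∈ Finset.univ.erase σ₀,
        Polynomial.aeval (d.lam τ) (minpoly (ZMod 2) (d.lam ρ)) = 0 :=
      Finset.prod_eq_zero (Finset.mem_erase.2 ⟨hτ, Finset.mem_univ _⟩) (minpoly.aeval _ _)
    simp only [r, hz]
    exact zero_pow (by have := Fintype.one_lt_card (α := F); omega)

variable {A B : Subgroup P} {k j : ℕ}

/-- `G` gives, on `B`, the coefficients of one layer of the action on `A`. -/
structure Coeff (d : GrossData P F) (A B : Subgroup P) (k j : ℕ) (G : P → (F ≃+* F) → F) : Prop where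
  spec : ∀ p ∈ B, ∀ a ∈ A, d.ι (⁅p, a⁆ ^ 2 ^ (k - 1 - j)) = ∑ σ, G p σ * σ (d.pi k a)
  add : ∀ p ∈ B, ∀ q ∈ B, G (p * q) = G p + G q
  vanish : ∀ p ∈ B, p ∈ A → G p = 0
  equiv : ∀ p ∈ B, ∀ σ, G (d.g p) σ = d.lam σ * G p σ
  deeper : ∀ p ∈ B, G p = 0 → ∀ a ∈ A, ⁅p, a⁆ ^ 2 ^ (k - 1 - j) = 1

lemma comm_mem_of_normal (hA : A.Normal) {a : P} (ha : a ∈ A) (p : P) : ⁅p, a⁆ ∈ A := by
  rw [commutatorElement_def]; exact mul_mem (hA.conj_mem a ha p) (inv_mem ha)

theorem exists_coeff (hA : d.Homo A k) (hBi : d.Inv B) (hjk : j < k)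
    (hj : ∀ p ∈ B, ∀ a ∈ A, ⁅p, a⁆ ^ 2 ^ (k - j) = 1) :
    ∃ G, d.Coeff A B k j G := by
  classical
  set m := 2 ^ (k - 1 - j) with hm
  have hmm : ∀ u : P, u ^ m * u ^ m = u ^ 2 ^ (k - j) := by
    intro u
    rw [← pow_add, ← two_mul, hm, ← pow_succ', show k - 1 - j + 1 = k - j by omega]
  have hinv : ∀ p ∈ B, ∀ a ∈ A, ⁅p, a⁆ ^ m * ⁅p, a⁆ ^ m = 1 := fun p hp a ha =>
    (hmm _).trans (hj p hp a ha)
  have hmul : ∀ p ∈ B, ∀ a ∈ A, ∀ b ∈ A,
      d.ι (⁅p, a * b⁆ ^ m) = d.ι (⁅p, a⁆ ^ m) + d.ι (⁅p, b⁆ ^ m) := by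
    intro p hp a ha b hb
    have e : ⁅p, a * b⁆ = ⁅p, a⁆ * ⁅p, b⁆ := by
      have e1 : ⁅p, a * b⁆ = ⁅p, a⁆ * (a * ⁅p, b⁆ * a⁻¹) := by
        simp only [commutatorElement_def]; group
      rw [e1, hA.comm a ha _ (comm_mem_of_normal hA.normal hb p), mul_inv_cancel_right]
    rw [e, hA.mul_pow (comm_mem_of_normal hA.normal ha p) (comm_mem_of_normal hA.normal hb p),
      d.ι_mul _ _ (hinv p hp a ha) (hinv p hp b hb)]
  choose sec hsec hsecπ using fun x => hA.pi_surj x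
  have hwd : ∀ p ∈ B, ∀ a ∈ A, d.ι (⁅p, a⁆ ^ m) = d.ι (⁅p, sec (d.pi k a)⁆ ^ m) := by
    intro p hp a ha
    set a' := sec (d.pi k a)
    have ha' : a' ∈ A := hsec _
    obtain ⟨b, hb, hba⟩ := hA.exists_sq (mul_mem (inv_mem ha') ha) (by
      have h1 := hA.pi_mul ha' (mul_mem (inv_mem ha') ha)
      rw [mul_inv_cancel_left, show d.pi k a' = d.pi k a from hsecπ _] at h1
      linear_combination -h1)
    have ea : a = a' * (b * b) := by rw [hba, mul_inv_cancel_left]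
    rw [ea, hmul p hp a' ha' _ (mul_mem hb hb), hmul p hp b hb b hb, CharTwo.add_self_eq_zero,
      add_zero]
  have hT : ∀ p : P, ∃ c : (F ≃+* F) → F,
      p ∈ B → ∀ x, d.ι (⁅p, sec x⁆ ^ m) = ∑ σ, c σ * σ x := by
    intro p
    by_cases hp : p ∈ B
    · obtain ⟨c, hc⟩ := exists_autSum (AddMonoidHom.mk' (fun x => d.ι (⁅p, sec x⁆ ^ m))
        (fun x y => by
          rw [← hmul p hp _ (hsec x) _ (hsec y), hwd p hp _ (mul_mem (hsec x) (hsec y)),
            hA.pi_mul (hsec x) (hsec y), hsecπ, hsecπ]))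
      exact ⟨c, fun _ => hc⟩
    · exact ⟨0, fun h => absurd h hp⟩
  choose G hG using hT
  have spec : ∀ p ∈ B, ∀ a ∈ A, d.ι (⁅p, a⁆ ^ m) = ∑ σ, G p σ * σ (d.pi k a) :=
    fun p hp a ha => (hwd p hp a ha).trans (hG p hp _)
  have ext' : ∀ (c c' : (F ≃+* F) → F),
      (∀ a ∈ A, ∑ σ, c σ * σ (d.pi k a) = ∑ σ, c' σ * σ (d.pi k a)) → c = c' := fun c c' h =>
    autSum_injective fun x => by
      obtain ⟨a, ha, rfl⟩ := hA.pi_surj x
      exact h a ha
  refine ⟨G, spec, fun p hp q hq => ext' _ _ fun a ha => ?_,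
    fun p hp hpA => ext' _ _ fun a ha => ?_, fun p hp => congrFun (ext' _ _ fun a ha => ?_),
    fun p hp h a ha => ?_⟩
  · simp only [Pi.add_apply, add_mul, Finset.sum_add_distrib]
    rw [← spec _ (mul_mem hp hq) a ha, ← spec p hp a ha, ← spec q hq a ha]
    have e : ⁅p * q, a⁆ = p * ⁅q, a⁆ * p⁻¹ * ⁅p, a⁆ := by
      simp only [commutatorElement_def]; group
    have e2 : p * ⁅q, a⁆ ^ m * p⁻¹ = ⁅q, a⁆ ^ m := by
      rw [d.comm_of_sq_one (hinv q hq a ha) p, mul_inv_cancel_right]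
    rw [e, hA.mul_pow (hA.normal.conj_mem _ (comm_mem_of_normal hA.normal ha q) p)
      (comm_mem_of_normal hA.normal ha p), conj_pow, e2,
      d.ι_mul _ _ (hinv q hq a ha) (hinv p hp a ha), add_comm]
  · rw [← spec p hp a ha]
    simp [commutatorElement_eq_one_iff_mul_comm.2 (hA.comm p hpA a ha), d.ι_one]
  · have hga := hA.inv a ha
    have h1 := spec _ (hBi p hp) _ hga
    rw [← map_commutatorElement, ← map_pow, d.ι_g _ (hinv p hp a ha), spec p hp a ha,
      Finset.mul_sum] at h1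
    -- compare at `g a`
    obtain ⟨b, hb, hgb⟩ : ∃ b ∈ A, d.g b = a := by
      haveI := d.finite
      have hinj : Function.Injective (fun x : A => (⟨d.g x, hA.inv x x.2⟩ : A)) := fun x y h =>
        Subtype.ext (d.g.injective (congrArg Subtype.val h))
      obtain ⟨b, hb⟩ := Finite.injective_iff_surjective.1 hinj ⟨a, ha⟩
      exact ⟨b, b.2, congrArg Subtype.val hb⟩
    have h2 := spec _ (hBi p hp) a ha
    rw [← hgb, ← map_commutatorElement, ← map_pow, d.ι_g _ (hinv p hp b hb), spec p hp b hb,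
      hA.pi_g hb, Finset.mul_sum] at h2
    rw [← hgb, hA.pi_g hb, ← h2]
    refine Finset.sum_congr rfl fun σ _ => ?_
    have hσ : σ d.ω ≠ 0 := fun h => d.ω_ne_zero (σ.map_eq_zero_iff.1 h)
    show d.ω * (G p σ * σ (d.pi k b)) = d.lam σ * G p σ * σ (d.ω * d.pi k b)
    rw [map_mul, lam]
    field_simp
  · exact d.ι_eq_zero _ (hinv p hp a ha) (by rw [spec p hp a ha, h]; simp)

/-- Projection onto one coefficient. -/
theorem Coeff.project {G : P → (F ≃+* F) → F} (hG : d.Coeff A B k j G) (hBi : d.Inv B)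
    (σ₀ : F ≃+* F) {y : P} (hy : y ∈ B) :
    ∃ y' ∈ B, G y' σ₀ = G y σ₀ ∧ ∀ τ, τ ≠ σ₀ → G y' τ = 0 := by
  have hG1 : G 1 = 0 := hG.vanish 1 (one_mem B) (one_mem A)
  have hGinv : ∀ z ∈ B, G z⁻¹ = -G z := fun z hz => by
    rw [eq_neg_iff_add_eq_zero, ← hG.add _ (inv_mem hz) _ hz, inv_mul_cancel, hG1]
  let R : Subring ((F ≃+* F) → F) :=
    { carrier := {r | ∀ z ∈ B, ∃ z' ∈ B, G z' = r * G z}
      one_mem' := fun z hz => ⟨z, hz, by rw [one_mul]⟩
      zero_mem' := fun z hz => ⟨1, one_mem B, by rw [hG1, zero_mul]⟩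
      mul_mem' := fun {r s} hr hs z hz => by
        obtain ⟨z', hz', h'⟩ := hs z hz
        obtain ⟨z'', hz'', h''⟩ := hr z' hz'
        exact ⟨z'', hz'', by rw [h'', h', mul_assoc]⟩
      add_mem' := fun {r s} hr hs z hz => by
        obtain ⟨z', hz', h'⟩ := hr z hz
        obtain ⟨z'', hz'', h''⟩ := hs z hz
        exact ⟨z' * z'', mul_mem hz' hz'', by rw [hG.add _ hz' _ hz'', h', h'', add_mul]⟩
      neg_mem' := fun {r} hr z hz => by
        obtain ⟨z', hz', h'⟩ := hr z hz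
        exact ⟨z'⁻¹, inv_mem hz', by rw [hGinv _ hz', h', neg_mul]⟩ }
  obtain ⟨r, hr, h1, h0⟩ := single_mem (d := d) R
    (fun z hz => ⟨d.g z, hBi z hz, funext fun σ => hG.equiv z hz σ⟩) σ₀
  obtain ⟨y', hy', h'⟩ := hr y hy
  exact ⟨y', hy', by rw [h', Pi.mul_apply, h1, one_mul],
    fun τ hτ => by rw [h', Pi.mul_apply, h0 τ hτ, zero_mul]⟩

/-- On a step, all coefficients but one vanish and the remaining one is faithful. -/
theorem Coeff.single {G : P → (F ≃+* F) → F} (hG : d.Coeff A B k j G) (hB : d.Step A B) :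
    ∃ σ₀, (∀ y ∈ B, ∀ τ, τ ≠ σ₀ → G y τ = 0) ∧
      ((∀ y ∈ B, G y = 0) ∨ ∀ y ∈ B, G y σ₀ = 0 → y ∈ A) := by
  by_cases h : ∀ y ∈ B, G y = 0
  · exact ⟨RingEquiv.refl F, fun y hy τ _ => by rw [h y hy]; rfl, Or.inl h⟩
  simp only [not_forall] at h
  obtain ⟨y₀, hy₀, hne⟩ := h
  obtain ⟨σ₀, hσ₀⟩ := Function.ne_iff.1 hne
  obtain ⟨y', hy', hy'1, hy'0⟩ := hG.project hB.inv σ₀ hy₀
  have hker : ∀ τ, (∀ y ∈ B, G y τ = 0) ∨ ∀ y ∈ B, G y τ = 0 → y ∈ A := by
    intro τ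
    let C : Subgroup P :=
      { carrier := {y | y ∈ B ∧ G y τ = 0}
        one_mem' := ⟨one_mem B, congrFun (hG.vanish 1 (one_mem B) (one_mem A)) τ⟩
        mul_mem' := fun {u v} hu hv => ⟨mul_mem hu.1 hv.1, by
          rw [hG.add _ hu.1 _ hv.1, Pi.add_apply, hu.2, hv.2, add_zero]⟩
        inv_mem' := fun {u} hu => ⟨inv_mem hu.1, by
          have := congrFun (hG.add _ (inv_mem hu.1) _ hu.1) τ
          rw [inv_mul_cancel, hG.vanish 1 (one_mem B) (one_mem A), Pi.add_apply, hu.2, add_zero] at this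
          exact this.symm⟩ }
    rcases hB.irred C (fun a ha => ⟨hB.lt.le ha, congrFun (hG.vanish a (hB.lt.le ha) ha) τ⟩)
      (fun y hy => hy.1)
      (fun y hy => ⟨hB.inv y hy.1, by rw [hG.equiv y hy.1, hy.2, mul_zero]⟩) with hC | hC
    · exact Or.inr fun y hy h => by rw [← hC]; exact ⟨hy, h⟩
    · exact Or.inl fun y hy => by
        have : y ∈ C := by rw [hC]; exact hy
        exact this.2
  refine ⟨σ₀, fun y hy τ hτ => ?_, Or.inr ?_⟩
  · rcases hker τ with h | h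
    · exact h y hy
    · refine absurd (congrFun (hG.vanish y' hy' (h y' hy' (hy'0 τ hτ))) σ₀) ?_
      rw [hy'1]; exact hσ₀
  · exact (hker σ₀).resolve_left fun h => hσ₀ (h y₀ hy₀)

end GrossData

end Cfsg.Agent.SuzukiGross
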