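import Cfsg.Agent.EqLemmas

/-!
Sums of two powers of two modulo a large divisor `m` of `2 ^ n - 1` with cofactor dividing `n`:
the exponent identities used for 2-groups with a solvable group of automorphisms that is
transitive on the involutions.
-/

set_option autoImplicit false

namespace Cfsg.Agent.SuzukiGross

lemma two_pow_add_eq {a b c e : ℕ} (h : 2 ^ a + 2 ^ b = 2 ^ c + 2 ^ e) :
    (a = c ∧ b = e) ∨ (a = e ∧ b = c) := by
  have key : ∀ a b c e : ℕ, a ≤ b → c ≤ e → 2 ^ a + 2 ^ b = 2 ^ c + 2 ^ e → a = c ∧ b = e := by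
    intro a b c e hab hce h
    have hb : ∀ {x y : ℕ}, x ≤ y → ∀ {z}, y < z → ∀ w, 2 ^ x + 2 ^ y < 2 ^ w + 2 ^ z := by
      intro x y hxy z hyz w
      have h1 : 2 ^ x ≤ 2 ^ y := Nat.pow_le_pow_right (by norm_num) hxy
      have h2 : 2 ^ (y + 1) ≤ 2 ^ z := Nat.pow_le_pow_right (by norm_num) hyz
      have h3 := Nat.one_le_two_pow (n := w)
      rw [pow_succ] at h2
      omega
    have hbe : b = e := by
      rcases lt_trichotomy b e with h' | h' | h'
      · have := hb hab h' c; omega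
      · exact h'
      · have := hb hce h' a; omega
    subst hbe
    exact ⟨Nat.pow_right_injective le_rfl (Nat.add_right_cancel h), rfl⟩
  rcases le_total a b with hab | hab <;> rcases le_total c e with hce | hce
  · exact Or.inl (key a b c e hab hce h)
  · have := key a b e c hab hce (by omega); exact Or.inr this
  · have := key b a c e hab hce (by omega); exact Or.inr ⟨this.2, this.1⟩
  · have := key b a e c hab hce (by omega); exact Or.inl ⟨this.2, this.1⟩

/-- Four residues modulo `n` leave a gap of length at least `n / 4`. -/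
lemma exists_gap {n : ℕ} (hn : 0 < n) (S : Finset ℕ) (hS : S.card ≤ 4) (hne : S.Nonempty)
    (hlt : ∀ x ∈ S, x < n) : ∃ x ∈ S, ∀ y ∈ S, (y + n - x) % n ≤ 3 * n / 4 := by
  by_contra hno
  push Not at hno
  choose f hf hfd using hno
  let g : ↥S → ↥S := fun x => ⟨f x x.2, hf x x.2⟩
  obtain ⟨x₀, hx₀⟩ := hne
  let seq : ℕ → ↥S := fun i => g^[i] ⟨x₀, hx₀⟩
  have hstep : ∀ i, ∃ e, 0 < e ∧ 4 * e < n ∧ ((seq (i + 1) : ℕ) + e) % n = (seq i : ℕ) % n := by
    intro i
    have h1 : seq (i + 1) = g (seq i) := Function.iterate_succ_apply' _ _ _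
    have hd := hfd (seq i : ℕ) (seq i).2
    rw [h1]
    generalize hy : f (seq i : ℕ) (seq i).2 = y at hd
    have hyn : y < n := hy ▸ hlt _ (hf _ _)
    have hxn := hlt _ (seq i).2
    show ∃ e, _ ∧ _ ∧ ((g (seq i) : ↥S).1 + e) % n = _
    rw [show (g (seq i) : ↥S).1 = y from hy]
    by_cases hc : (seq i : ℕ) ≤ y
    · rw [show y + n - (seq i : ℕ) = (y - seq i) + n by omega, Nat.add_mod_right,
        Nat.mod_eq_of_lt (by omega)] at hd
      refine ⟨n - (y - seq i), by omega, by omega, ?_⟩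
      rw [show y + (n - (y - (seq i : ℕ))) = (seq i : ℕ) + n by omega, Nat.add_mod_right]
    · rw [Nat.mod_eq_of_lt (by omega)] at hd
      refine ⟨(seq i : ℕ) - y, by omega, by omega, ?_⟩
      rw [Nat.add_sub_cancel' (by omega)]
  have hmany : ∀ i j, i < j → j ≤ i + 4 →
      ∃ e, 0 < e ∧ e < n ∧ ((seq j : ℕ) + e) % n = (seq i : ℕ) % n := by
    intro i j hij hj
    have key : ∀ k, 1 ≤ k → ∃ e, 0 < e ∧ 4 * e < k * n ∧
        ((seq (i + k) : ℕ) + e) % n = (seq i : ℕ) % n := by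
      intro k hk
      induction k, hk using Nat.le_induction with
      | base => simpa using hstep i
      | succ k hk ih =>
        obtain ⟨e, he0, he, hee⟩ := ih
        obtain ⟨e', he'0, he', hee'⟩ := hstep (i + k)
        refine ⟨e' + e, by omega, by rw [Nat.add_mul, one_mul]; omega, ?_⟩
        rw [← add_assoc i k 1, ← add_assoc, Nat.add_mod, hee', ← Nat.add_mod, hee]
    obtain ⟨e, he0, he, hee⟩ := key (j - i) (by omega)
    rw [Nat.add_sub_cancel' hij.le] at hee
    exact ⟨e, he0, by have := Nat.mul_le_mul_right n (show j - i ≤ 4 by omega); omega, hee⟩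
  obtain ⟨i, j, hij, hseq⟩ := Fintype.exists_ne_map_eq_of_card_lt (fun i : Fin 5 => seq i)
    (by rw [Fintype.card_coe, Fintype.card_fin]; omega)
  have hfin : ∀ i j : Fin 5, i.1 < j.1 → seq i = seq j → False := by
    intro i j hij h
    obtain ⟨e, he0, he, hee⟩ := hmany i j hij (by omega)
    rw [h] at hee
    have hx := hlt _ (seq j).2
    rw [Nat.mod_eq_of_lt hx] at hee
    by_cases hc : (seq j : ℕ) + e < n
    · rw [Nat.mod_eq_of_lt hc] at hee; omega
    · rw [Nat.mod_eq_sub_mod (by omega), Nat.mod_eq_of_lt (by omega)] at hee; omega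
  rcases lt_or_gt_of_ne (fun h => hij (Fin.ext h)) with h | h
  · exact hfin i j h hseq
  · exact hfin j i h hseq.symm

lemma pow_mod_period {n m : ℕ} (hm : m ∣ 2 ^ n - 1) (i : ℕ) : 2 ^ i ≡ 2 ^ (i % n) [MOD m] := by
  have h1 : 2 ^ n ≡ 1 [MOD m] := ((Nat.modEq_iff_dvd' Nat.one_le_two_pow).2 hm).symm
  have h2 := (h1.pow (i / n)).mul_right (2 ^ (i % n))
  rw [← pow_mul, ← pow_add, Nat.div_add_mod, one_pow, one_mul] at h2
  exact h2

/-- Uniqueness of two-power sums modulo `m`. -/
theorem sum_eq {n m d : ℕ} (hmd : m * d = 2 ^ n - 1) (hd : d + 1 ≤ 2 ^ (n - (3 * n / 4 + 1)))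
    {a b c e : ℕ} (ha : a < n) (hb : b < n) (hc : c < n) (he : e < n)
    (h : 2 ^ a + 2 ^ b ≡ 2 ^ c + 2 ^ e [MOD m]) : (a = c ∧ b = e) ∨ (a = e ∧ b = c) := by
  classical
  have hn : 0 < n := by omega
  obtain ⟨x, hx, hgap⟩ := exists_gap hn ({a, b, c, e} : Finset ℕ) (Finset.card_le_four) ⟨a, by simp⟩
    (by simp [ha, hb, hc, he])
  have hxn : x < n := by
    simp only [Finset.mem_insert, Finset.mem_singleton] at hx
    omega
  set r := n - x
  have hm : m ∣ 2 ^ n - 1 := ⟨d, hmd.symm⟩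
  let R : ℕ → ℕ := fun y => (y + r) % n
  have hR : ∀ y, 2 ^ r * 2 ^ y ≡ 2 ^ R y [MOD m] := fun y => by
    rw [← pow_add, add_comm]; exact pow_mod_period hm _
  have hRle : ∀ y ∈ ({a, b, c, e} : Finset ℕ), R y ≤ 3 * n / 4 := fun y hy => by
    have := hgap y hy
    rwa [show y + n - x = y + r by omega] at this
  have hRinj : ∀ y z, y < n → z < n → R y = R z → y = z := by
    intro y z hy hz hyz
    have h1 : y ≡ z [MOD n] := Nat.ModEq.add_right_cancel' r hyz
    rwa [Nat.ModEq, Nat.mod_eq_of_lt hy, Nat.mod_eq_of_lt hz] at h1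
  have h1 := h.mul_left (2 ^ r)
  rw [mul_add, mul_add] at h1
  have h2 : 2 ^ R a + 2 ^ R b ≡ 2 ^ R c + 2 ^ R e [MOD m] :=
    ((hR a).add (hR b)).symm.trans (h1.trans ((hR c).add (hR e)))
  set K := 3 * n / 4
  have hbound : ∀ y z, y ∈ ({a, b, c, e} : Finset ℕ) → z ∈ ({a, b, c, e} : Finset ℕ) →
      2 ^ R y + 2 ^ R z < m := by
    intro y z hy hz
    have e1 : 2 ^ R y ≤ 2 ^ K := Nat.pow_le_pow_right (by norm_num) (hRle y hy)
    have e2 : 2 ^ R z ≤ 2 ^ K := Nat.pow_le_pow_right (by norm_num) (hRle z hz)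
    have e3 : (d + 1) * 2 ^ (K + 1) ≤ 2 ^ n := by
      calc (d + 1) * 2 ^ (K + 1) ≤ 2 ^ (n - (K + 1)) * 2 ^ (K + 1) := Nat.mul_le_mul_right _ hd
        _ = 2 ^ n := by rw [← pow_add]; congr 1; omega
    have e4 : 2 ≤ 2 ^ (K + 1) := Nat.le_self_pow (by omega) 2
    by_contra hlt
    have e5 : m * d ≤ 2 ^ (K + 1) * d := Nat.mul_le_mul_right d (by rw [pow_succ]; omega)
    rw [Nat.add_mul, one_mul, mul_comm d] at e3
    omega
  have h3 := h2.eq_of_lt_of_lt (hbound a b (by simp) (by simp)) (hbound c e (by simp) (by simp))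
  rcases two_pow_add_eq h3 with ⟨h4, h5⟩ | ⟨h4, h5⟩
  · exact Or.inl ⟨hRinj a c ha hc h4, hRinj b e hb he h5⟩
  · exact Or.inr ⟨hRinj a e ha he h4, hRinj b c hb hc h5⟩

lemma bound_of_large : ∀ n : ℕ, 21 ≤ n → n + 1 ≤ 2 ^ ((n - 1) / 4) := by
  intro n
  induction n using Nat.strong_induction_on with
  | _ n ih =>
    intro hn
    by_cases h : n < 25
    · interval_cases n <;> norm_num
    · have h1 := ih (n - 4) (by omega) (by omega)
      rw [show (n - 1) / 4 = (n - 4 - 1) / 4 + 1 by omega, pow_succ]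
      omega

/-- The two identities in the exponents. -/
def Good (n m : ℕ) : Prop :=
  (∀ a < n, ∀ b < n, 2 ^ a + 2 ^ b ≡ 1 [MOD m] → a = b) ∧
  ∀ a < n, ∀ b < n, ∀ s < n, 2 ^ a + 2 ^ b ≡ 1 + 2 ^ ((s + a) % n) [MOD m] → s = b

/-- The finite check. -/
def check (n d : ℕ) : Bool :=
  !decide (0 < n ∧ d ∣ n ∧ d ∣ 2 ^ n - 1) || decide (d + 1 ≤ 2 ^ (n - (3 * n / 4 + 1))) ||
    (((List.range n).all fun a => (List.range n).all fun b =>
        decide ((2 ^ a + 2 ^ b) % ((2 ^ n - 1) / d) = 1 % ((2 ^ n - 1) / d) → a = b)) &&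
      (List.range n).all fun a => (List.range n).all fun b => (List.range n).all fun s =>
        decide ((2 ^ a + 2 ^ b) % ((2 ^ n - 1) / d) = (1 + 2 ^ ((s + a) % n)) % ((2 ^ n - 1) / d) →
          s = b))

/-- The finite check over all small parameters. -/
def checkAll : Bool := (List.range 21).all fun n => (List.range 21).all fun d => check n d

lemma checkAll_true : checkAll = true := by decide +kernel

theorem good {n m d : ℕ} (hn : 0 < n) (hmd : m * d = 2 ^ n - 1) (hdn : d ∣ n) : Good n m := by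
  by_cases hbig : d + 1 ≤ 2 ^ (n - (3 * n / 4 + 1))
  · have hm : m ∣ 2 ^ n - 1 := ⟨d, hmd.symm⟩
    refine ⟨fun a ha b hb h => ?_, fun a ha b hb s hs h => ?_⟩
    · have h1 : 2 ^ (n - 1) + 2 ^ (n - 1) ≡ 1 [MOD m] := by
        rw [← two_mul, ← pow_succ', Nat.sub_add_cancel hn]
        simpa using pow_mod_period hm n
      rcases sum_eq hmd hbig ha hb (by omega) (by omega) (h.trans h1.symm) with ⟨h2, h3⟩ | ⟨h2, h3⟩
      <;> omega
    · rw [← pow_zero 2] at h
      rcases sum_eq hmd hbig ha hb (by omega) (Nat.mod_lt _ hn) h with ⟨h2, h3⟩ | ⟨h2, h3⟩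
      · subst h2; rw [add_zero, Nat.mod_eq_of_lt hs] at h3; exact h3.symm
      · subst h3
        by_cases hc : s + a < n
        · rw [Nat.mod_eq_of_lt hc] at h2; omega
        · rw [Nat.mod_eq_sub_mod (by omega), Nat.mod_eq_of_lt (by omega)] at h2; omega
  · have hd : d ≤ n := Nat.le_of_dvd hn hdn
    have hlt : n < 21 := by
      by_contra hge
      have h1 := bound_of_large n (by omega)
      rw [show n - (3 * n / 4 + 1) = (n - 1) / 4 by omega] at hbig
      omega
    rcases Nat.eq_zero_or_pos d with rfl | hd0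
    · have := Nat.one_lt_two_pow (n := n) (by omega)
      rw [mul_zero] at hmd
      omega
    have hm : m = (2 ^ n - 1) / d := by rw [← hmd, Nat.mul_div_cancel _ hd0]
    have hdvd : d ∣ 2 ^ n - 1 := ⟨m, by rw [← hmd, mul_comm]⟩
    have hk := checkAll_true
    simp only [checkAll, List.all_eq_true, List.mem_range] at hk
    have := hk n hlt d (by omega)
    simp only [check, Bool.or_eq_true, Bool.not_eq_true', decide_eq_false_iff_not,
      decide_eq_true_eq, Bool.and_eq_true, List.all_eq_true, List.mem_range] at this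
    subst hm
    rcases this with (h | h) | h
    · exact absurd ⟨hn, hdn, hdvd⟩ h
    · exact absurd h hbig
    · exact h

end Cfsg.Agent.SuzukiGross
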