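import Cfsg.Agent.Lib.SuzukiGross.Basic

/-!
Squares and commutators are involutions and the centre consists of involutions, for `GrossData`.
-/

set_option autoImplicit false

open scoped commutatorElement
open Cfsg.Agent.SuzukiTwo (autSum_injective exists_autSum exists_biadd)
open scoped Cfsg.Agent.SuzukiTwo

namespace Cfsg.Agent.SuzukiGross

variable {F : Type*} [Field F] [Fintype F] [CharP F 2]

namespace GrossData

variable {P : Type*} [Group P] {d : GrossData P F} {A B : Subgroup P} {k : ℕ}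

/-- An alternating biadditive map commuting with `ω` in both arguments vanishes. -/
lemma alternating_equivariant_eq_zero (D : F →+ F →+ F) (halt : ∀ x, D x x = 0)
    (hω : ∀ x y, D (d.ω * x) (d.ω * y) = d.ω * D x y) : ∀ x y, D x y = 0 := by
  classical
  obtain ⟨c, hc⟩ := exists_biadd D
  have heq : ∀ σ τ, c σ τ * (σ d.ω * τ d.ω) = d.ω * c σ τ := by
    intro σ τ
    have h1 : ∀ x, (fun τ => ∑ σ, c σ τ * (σ d.ω * τ d.ω) * σ x) =
        fun τ => ∑ σ, d.ω * c σ τ * σ x := by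
      intro x
      refine autSum_injective fun y => ?_
      have h := hω x y
      rw [hc, hc, Finset.mul_sum] at h
      simp only [map_mul, Finset.mul_sum] at h
      simp only [Finset.sum_mul]
      rw [Finset.sum_comm]
      refine Eq.trans ?_ (h.trans ?_)
      · exact Finset.sum_congr rfl fun σ _ => Finset.sum_congr rfl fun τ _ => by ring
      · conv_rhs => rw [Finset.sum_comm]
        exact Finset.sum_congr rfl fun σ _ => Finset.sum_congr rfl fun τ _ => by ring
    exact congrFun (autSum_injective fun x => congrFun (h1 x) τ) σ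
  let s : F ≃+* F := (frobeniusEquiv F 2).symm
  have hs : ∀ x, s x * s x = x := fun x => by
    have h : frobeniusEquiv F 2 (s x) = x := (frobeniusEquiv F 2).apply_symm_apply x
    rwa [frobeniusEquiv_apply, frobenius_def, pow_two] at h
  have hsupp : ∀ σ τ, c σ τ ≠ 0 → σ = s ∧ τ = s := by
    intro σ τ hne
    have hστ : σ d.ω * τ d.ω = d.ω := mul_left_cancel₀ hne ((heq σ τ).trans (mul_comm _ _))
    obtain rfl := d.prodOne σ τ hστ
    have h1 : σ = s := d.aut_ext (SuzukiTwo.sq_injective (hστ.trans (hs d.ω).symm))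
    exact ⟨h1, h1⟩
  have hsum : ∀ x y, D x y = c s s * (s x * s y) := by
    intro x y
    rw [hc, Finset.sum_eq_single s, Finset.sum_eq_single s]
    · intro τ _ hτ
      by_cases h : c s τ = 0
      · rw [h, zero_mul]
      · exact absurd (hsupp _ _ h).2 hτ
    · intro h; exact absurd (Finset.mem_univ _) h
    · intro σ _ hσ
      refine Finset.sum_eq_zero fun τ _ => ?_
      by_cases h : c σ τ = 0
      · rw [h, zero_mul]
      · exact absurd (hsupp _ _ h).1 hσ
    · intro h; exact absurd (Finset.mem_univ _) h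
  have h0 : c s s = 0 := by
    have h := halt 1
    rw [hsum] at h
    simpa using h
  intro x y
  rw [hsum, h0, zero_mul]

lemma mem_of_mul_self_eq_one (hA : d.Homo A k) {y a : P} (ha : a ∈ A)
    (h : y * a * (y * a) = 1) : y ∈ A :=
  (Subgroup.mul_mem_cancel_right A ha).1 (hA.V_le h)

lemma comm_pow_top (hA : d.Homo A k) (p : P) {a : P} (ha : a ∈ A) :
    ⁅p, a⁆ ^ 2 ^ (k - 1) = 1 := by
  rw [commutatorElement_def, hA.mul_pow (hA.normal.conj_mem a ha p) (inv_mem ha), conj_pow,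
    inv_pow, d.comm_of_sq_one (hA.top_sq ha) p, mul_inv_cancel_right, mul_inv_cancel]

lemma pi_eq_zero_of_sq (hA : d.Homo A k) (hk : 2 ≤ k) {v : P} (hv : v * v = 1) :
    d.pi k v = 0 := by
  have e : 2 ^ (k - 1) = 2 * 2 ^ (k - 2) := by rw [← pow_succ']; congr 1; omega
  rw [pi, e, pow_mul, pow_two, hv, one_pow, d.ι_one]

lemma g_inv_mem {H : Subgroup P} (hH : d.Inv H) {x : P} (hx : d.g x ∈ H) : x ∈ H := by
  haveI := d.finite
  have hinj : Function.Injective (fun y : H => (⟨d.g y, hH y y.2⟩ : H)) := fun y z h =>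
    Subtype.ext (d.g.injective (congrArg Subtype.val h))
  obtain ⟨y, hy⟩ := Finite.injective_iff_surjective.1 hinj ⟨d.g x, hx⟩
  have := d.g.injective (congrArg Subtype.val hy)
  exact this ▸ y.2

/-- A maximal abelian normal invariant subgroup with `k ≥ 2` is self-centralising. -/
lemma centralizer_le (hA : d.Homo A k) (hk : 2 ≤ k)
    (hmax : ∀ B : Subgroup P, B.Normal → d.Inv B → (∀ a ∈ B, ∀ b ∈ B, a * b = b * a) → A ≤ B →
      B = A) {x : P} (hx : ∀ a ∈ A, x * a = a * x) : x ∈ A := by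
  classical
  haveI := d.finite
  haveI := hA.normal
  by_contra hxA
  let C := Subgroup.centralizer (A : Set P)
  have hmemC : ∀ {z : P}, z ∈ C ↔ ∀ a ∈ A, a * z = z * a := Subgroup.mem_centralizer_iff
  have hCi : d.Inv C := by
    intro z hz
    rw [hmemC] at hz ⊢
    intro a ha
    obtain ⟨b, rfl⟩ := d.g.surjective a
    rw [← map_mul, ← map_mul, hz b (g_inv_mem hA.inv ha)]
  have hlt : A < C := SetLike.lt_iff_le_and_exists.2
    ⟨fun a ha => hmemC.2 fun b hb => hA.comm b hb a ha, x, hmemC.2 fun a ha => (hx a ha).symm, hxA⟩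
  obtain ⟨B, hB, hBC⟩ := d.exists_step hA.normal hA.inv inferInstance hCi hlt
  have hcen : ∀ y ∈ B, ∀ a ∈ A, a * y = y * a := fun y hy => hmemC.1 (hBC hy)
  -- commutators in `B` are involutions
  have hu : ∀ y ∈ B, ∀ y' ∈ B, ⁅y, y'⁆ * ⁅y, y'⁆ = 1 := by
    intro y hy y' hy'
    have h1 : ⁅y * y, y'⁆ = 1 :=
      commutatorElement_eq_one_iff_mul_comm.2 (hcen y' hy' _ (hB.sq_mem y hy))
    have h2 : ⁅y * y, y'⁆ = y * ⁅y, y'⁆ * y⁻¹ * ⁅y, y'⁆ := by
      simp only [commutatorElement_def]; group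
    rw [h2, ← hcen y hy _ (hB.comm_mem y y' hy'), mul_inv_cancel_right] at h1
    exact h1
  let c : P → F := fun y => d.pi k (y * y)
  have hcadd : ∀ y ∈ B, ∀ y' ∈ B, c (y * y') = c y + c y' := by
    intro y hy y' hy'
    have hw : ⁅y', y⁆ ∈ A := hB.comm_mem y' y hy
    have e : y * y' * (y * y') = ⁅y', y⁆ * (y * y) * (y' * y') := by
      calc y * y' * (y * y') = y * ⁅y', y⁆ * y * (y' * y') := by
            rw [commutatorElement_def]; group
        _ = _ := by rw [← hcen y hy _ hw]; group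
    show d.pi k _ = d.pi k _ + d.pi k _
    rw [e, hA.pi_mul (mul_mem hw (hB.sq_mem y hy)) (hB.sq_mem y' hy'),
      hA.pi_mul hw (hB.sq_mem y hy), pi_eq_zero_of_sq hA hk (hu y' hy' y hy), zero_add]
  have hc0 : ∀ y ∈ B, c y = 0 → y ∈ A := by
    intro y hy h
    obtain ⟨b, hb, hbb⟩ := hA.exists_sq (hB.sq_mem y hy) h
    refine mem_of_mul_self_eq_one hA (inv_mem hb) (y := y) ?_
    calc y * b⁻¹ * (y * b⁻¹) = y * (b⁻¹ * y) * b⁻¹ := by group
      _ = y * (y * b⁻¹) * b⁻¹ := by rw [hcen y hy _ (inv_mem hb)]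
      _ = (y * y) * (b * b)⁻¹ := by group
      _ = 1 := by rw [hbb, mul_inv_cancel]
  have hcg : ∀ y ∈ B, c (d.g y) = d.ω * c y := by
    intro y hy
    show d.pi k _ = _
    rw [← map_mul, hA.pi_g (hB.sq_mem y hy)]
  have hcgj : ∀ (j : ℕ), ∀ y ∈ B, c ((d.g ^ j) y) = d.ω ^ j * c y := by
    intro j
    induction j with
    | zero => intro y _; simp
    | succ j ih =>
      intro y hy
      rw [pow_succ', MulAut.mul_apply, hcg _ (d.g_pow_mem hB.inv j hy), ih y hy, pow_succ']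
      ring
  obtain ⟨y₀, hy₀, hy₀A⟩ := SetLike.exists_of_lt hB.lt
  have hc1 : c 1 = 0 := by
    show d.pi k _ = _; rw [mul_one, pi_eq_zero_of_sq hA hk (mul_one _)]
  let W : AddSubgroup F :=
    { carrier := {x | ∃ y ∈ B, c y = x}
      zero_mem' := ⟨1, one_mem B, hc1⟩
      add_mem' := by
        rintro x x' ⟨y, hy, rfl⟩ ⟨y', hy', rfl⟩
        exact ⟨y * y', mul_mem hy hy', hcadd y hy y' hy'⟩
      neg_mem' := by
        rintro x ⟨y, hy, rfl⟩
        refine ⟨y, hy, ?_⟩
        exact eq_neg_of_add_eq_zero_left (CharTwo.add_self_eq_zero _) }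
  have hsur : ∀ x : F, ∃ y ∈ B, c y = x :=
    d.span W (c y₀) (fun h => hy₀A (hc0 y₀ hy₀ h)) ⟨y₀, hy₀, rfl⟩ (by
      rintro x ⟨y, hy, rfl⟩
      exact ⟨d.g y, hB.inv y hy, hcg y hy⟩)
  choose sec hsB hsc using hsur
  have hind : ∀ y ∈ B, ∀ y' ∈ B, ⁅y, y'⁆ = ⁅sec (c y), sec (c y')⁆ := by
    have key : ∀ y ∈ B, ∀ z ∈ B, c y = c z → ∀ y' ∈ B, ⁅y, y'⁆ = ⁅z, y'⁆ := by
      intro y hy z hz h y' hy'
      have hmem : z⁻¹ * y ∈ A := hc0 _ (mul_mem (inv_mem hz) hy) (by
        have h1 := hcadd z hz _ (mul_mem (inv_mem hz) hy)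
        rw [mul_inv_cancel_left] at h1
        linear_combination h - h1)
      have e : y = z * (z⁻¹ * y) := (mul_inv_cancel_left z y).symm
      generalize z⁻¹ * y = a at hmem e
      subst e
      calc ⁅z * a, y'⁆ = z * (a * y') * a⁻¹ * z⁻¹ * y'⁻¹ := by rw [commutatorElement_def]; group
        _ = z * (y' * a) * a⁻¹ * z⁻¹ * y'⁻¹ := by rw [hcen y' hy' a hmem]
        _ = ⁅z, y'⁆ := by rw [commutatorElement_def]; group
    intro y hy y' hy'
    rw [key y hy _ (hsB _) (hsc _).symm y' hy', ← commutatorElement_inv,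
      key y' hy' _ (hsB _) (hsc _).symm _ (hsB _), commutatorElement_inv]
  have hadd1 : ∀ y ∈ B, ∀ z ∈ B, ∀ y' ∈ B,
      d.ι ⁅y * z, y'⁆ = d.ι ⁅y, y'⁆ + d.ι ⁅z, y'⁆ := by
    intro y hy z hz y' hy'
    have e : ⁅y * z, y'⁆ = y * ⁅z, y'⁆ * y⁻¹ * ⁅y, y'⁆ := by
      simp only [commutatorElement_def]; group
    rw [e, d.comm_of_sq_one (hu z hz y' hy') y, mul_inv_cancel_right,
      d.ι_mul _ _ (hu z hz y' hy') (hu y hy y' hy'), add_comm]
  have hswap : ∀ y ∈ B, ∀ y' ∈ B, d.ι ⁅y, y'⁆ = d.ι ⁅y', y⁆ := fun y hy y' hy' => by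
    rw [← commutatorElement_inv, inv_eq_of_mul_eq_one_left (hu y' hy' y hy)]
  let D0 : F → F → F := fun x x' => d.ι ⁅sec x, sec x'⁆
  have hD0 : ∀ x y z, D0 (x + y) z = D0 x z + D0 y z := by
    intro x y z
    show d.ι _ = d.ι _ + d.ι _
    rw [← hadd1 _ (hsB x) _ (hsB y) _ (hsB z),
      hind _ (mul_mem (hsB x) (hsB y)) _ (hsB z), hcadd _ (hsB x) _ (hsB y), hsc, hsc, hsc]
  have hD0s : ∀ x y, D0 x y = D0 y x := fun x y => hswap _ (hsB x) _ (hsB y)
  let D : F →+ F →+ F := AddMonoidHom.mk' (fun x => AddMonoidHom.mk' (D0 x)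
    (fun y z => by rw [hD0s, hD0, hD0s y, hD0s z])) (fun x y => by ext z; exact hD0 x y z)
  have hD := alternating_equivariant_eq_zero (d := d) D
    (fun x => by show d.ι _ = 0; rw [commutatorElement_self, d.ι_one])
    (fun x y => by
      show d.ι ⁅sec (d.ω * x), sec (d.ω * y)⁆ = d.ω * d.ι ⁅sec x, sec y⁆
      rw [← d.ι_g _ (hu _ (hsB x) _ (hsB y)), map_commutatorElement,
        hind _ (hB.inv _ (hsB x)) _ (hB.inv _ (hsB y)), hcg _ (hsB x), hcg _ (hsB y), hsc, hsc])
  refine hB.lt.ne' (hmax B hB.normal hB.inv (fun y hy y' hy' => ?_) hB.lt.le)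
  rw [← commutatorElement_eq_one_iff_mul_comm, hind y hy y' hy']
  exact d.ι_eq_zero _ (hu _ (hsB _) _ (hsB _)) (hD _ _)

/-- On a step, squares are squares in `A`. -/
lemma step_sq (hA : d.Homo A k) (hB : d.Step A B)
    (hC : ∀ x : P, (∀ a ∈ A, x * a = a * x) → x ∈ A) {y : P} (hy : y ∈ B) :
    d.pi k (y * y) = 0 := by
  by_contra hne
  have hall : ∀ i, i ≤ k - 1 → ∀ p ∈ B, ∀ a ∈ A, ⁅p, a⁆ ^ 2 ^ (k - 1 - i) = 1 := by
    intro i
    induction i with
    | zero => intro _ p _ a ha; simpa using comm_pow_top hA p ha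
    | succ i ih =>
      intro hi p hp a ha
      obtain ⟨G, hG⟩ := exists_coeff (j := i + 1) hA hB.inv (by omega) (fun p hp a ha => by
        rw [show k - (i + 1) = k - 1 - i by omega]; exact ih (by omega) p hp a ha)
      obtain ⟨σ₀, hσ, hf⟩ := hG.single hB
      rcases hf with h | h
      · exact hG.deeper p hp (h p hp) a ha
      · exfalso
        have h1 := hG.spec y hy (y * y) (hB.sq_mem y hy)
        rw [commutatorElement_eq_one_iff_mul_comm.2 (mul_assoc y y y).symm, one_pow, d.ι_one,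
          Finset.sum_eq_single σ₀ (fun τ _ hτ => by rw [hσ y hy τ hτ, zero_mul])
            (fun h => absurd (Finset.mem_univ _) h)] at h1
        rcases mul_eq_zero.1 h1.symm with h2 | h2
        · exact hne (hA.pi_sq (h y hy h2))
        · exact hne (σ₀.map_eq_zero_iff.1 h2)
  have hyA : y ∈ A := hC y fun a ha => by
    have h := hall (k - 1) le_rfl y hy a ha
    rw [Nat.sub_self, pow_zero, pow_one, commutatorElement_eq_one_iff_mul_comm] at h
    exact h
  exact hne (hA.pi_sq hyA)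

/-- A maximal abelian normal invariant subgroup has exponent at most 4. -/
lemma le_two (hA : d.Homo A k) (hC : ∀ x : P, (∀ a ∈ A, x * a = a * x) → x ∈ A) : k ≤ 2 := by
  classical
  by_contra hk
  haveI := d.finite
  have hlt : A < ⊤ := by
    rw [lt_top_iff_ne_top]
    intro h
    obtain ⟨x, y, hxy⟩ := d.nonabelian
    exact hxy (hA.comm x (by rw [h]; trivial) y (by rw [h]; trivial))
  obtain ⟨B, hB, -⟩ := d.exists_step hA.normal hA.inv inferInstance (fun _ _ => Subgroup.mem_top _) hlt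
  obtain ⟨G, hG⟩ := exists_coeff (j := 1) hA hB.inv (by omega) (fun p _ a ha => comm_pow_top hA p ha)
  obtain ⟨σ₀, hσ, hf⟩ := hG.single hB
  obtain ⟨y, hy, hyA⟩ := SetLike.exists_of_lt hB.lt
  have hspec : ∀ p ∈ B, ∀ a ∈ A,
      d.ι (⁅p, a⁆ ^ 2 ^ (k - 1 - 1)) = G p σ₀ * σ₀ (d.pi k a) := fun p hp a ha => by
    rw [hG.spec p hp a ha]
    exact Finset.sum_eq_single σ₀ (fun τ _ hτ => by rw [hσ p hp τ hτ, zero_mul])
      (fun h => absurd (Finset.mem_univ _) h)
  have hyy := hB.sq_mem y hy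
  obtain ⟨e, he, hee⟩ := hA.exists_sq hyy (step_sq hA hB hC hy)
  -- no element `y a` is an involution
  have hno : ∀ a ∈ A, ⁅y, a⁆ * a * a * (y * y) ≠ 1 := fun a ha h =>
    hyA (mem_of_mul_self_eq_one hA ha (y := y) (by
      calc y * a * (y * a) = ⁅y, a⁆ * (a * (y * y)) * a := by rw [commutatorElement_def]; group
        _ = ⁅y, a⁆ * a * ((y * y) * a) := by group
        _ = ⁅y, a⁆ * a * (a * (y * y)) := by rw [hA.comm _ hyy a ha]
        _ = 1 := by rw [← mul_assoc]; exact h))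
  -- idempotency of the coefficient
  have hidem : ∀ x : F, G y σ₀ * σ₀ (G y σ₀ * σ₀ x) = G y σ₀ * σ₀ x := by
    intro x
    obtain ⟨a, ha, rfl⟩ := hA.pi_surj x
    have hu := comm_mem_of_normal hA.normal ha y
    obtain ⟨b, hb, hbu⟩ := hA.root (k - 1) (by omega) hu (comm_pow_top hA y ha)
    rw [show k - (k - 1) = 1 by omega, pow_one] at hbu
    have h1 : ⁅y, ⁅y, a⁆⁆ * ⁅y, a⁆ ^ 2 = 1 := by
      have h2 : ⁅y * y, a⁆ = 1 :=
        commutatorElement_eq_one_iff_mul_comm.2 (hA.comm _ hyy a ha)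
      rw [← h2, pow_two]; simp only [commutatorElement_def]; group
    have h3 : ⁅y, ⁅y, a⁆⁆ = ⁅y, b⁆ ^ 2 := by
      rw [← hbu, commutatorElement_def, commutatorElement_def,
        hA.mul_pow (hA.normal.conj_mem b hb y) (inv_mem hb), conj_pow, inv_pow]
    rw [h3, ← hA.mul_pow (comm_mem_of_normal hA.normal hb y) hu] at h1
    have h4 : (⁅y, b⁆ * ⁅y, a⁆) ^ 2 ^ (k - 1 - 1) = 1 := by
      rw [show k - 1 - 1 = (k - 3) + 1 by omega, pow_succ', pow_mul, h1, one_pow]
    rw [hA.mul_pow (comm_mem_of_normal hA.normal hb y) hu] at h4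
    have hpb : d.pi k b = d.ι (⁅y, a⁆ ^ 2 ^ (k - 1 - 1)) := by
      rw [pi, ← hbu, ← pow_mul, ← pow_succ', show k - 1 - 1 + 1 = k - 1 by omega]
    have hsq : ∀ c ∈ A, ⁅y, c⁆ ^ 2 ^ (k - 1 - 1) * ⁅y, c⁆ ^ 2 ^ (k - 1 - 1) = 1 := fun c hc => by
      rw [← pow_add, ← two_mul, ← pow_succ', show k - 1 - 1 + 1 = k - 1 by omega]
      exact comm_pow_top hA y hc
    have h5 := congrArg d.ι h4
    rw [d.ι_mul _ _ (hsq b hb) (hsq a ha), d.ι_one, hspec y hy b hb, hpb, hspec y hy a ha] at h5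
    exact CharTwo.add_eq_zero.1 h5
  rcases hf with h | h
  · -- `y` centralises `A` modulo fourth powers
    have hy4 : ∀ b ∈ A, ∃ c ∈ A, c ^ 2 ^ 2 = ⁅y, b⁆ := fun b hb => by
      obtain ⟨c, hc, hcb⟩ := hA.root (k - 2) (by omega) (comm_mem_of_normal hA.normal hb y)
        (by
          have := hG.deeper y hy (h y hy) b hb
          rwa [show k - 1 - 1 = k - 2 by omega] at this)
      exact ⟨c, hc, by rwa [show k - (k - 2) = 2 by omega] at hcb⟩
    have happ : ∀ m i, 1 ≤ i → k ≤ i + m → ∀ b ∈ A, ∃ a ∈ A, ⁅y, a⁆ * a * a = b ^ 2 ^ i := by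
      intro m
      induction m with
      | zero =>
        intro i _ hi b hb
        refine ⟨1, one_mem A, ?_⟩
        obtain ⟨l, rfl⟩ := Nat.le.dest (show k ≤ i by omega)
        rw [pow_add 2 k l, pow_mul, hA.exp b hb, one_pow]
        simp
      | succ m ih =>
        intro i hi1 hi b hb
        have hb1 : b ^ 2 ^ (i - 1) ∈ A := pow_mem hb _
        obtain ⟨c, hc, hcb⟩ := hy4 b hb
        obtain ⟨a, ha, haa⟩ := ih (i + 1) (by omega) (by omega) c⁻¹ (inv_mem hc)
        refine ⟨b ^ 2 ^ (i - 1) * a, mul_mem hb1 ha, ?_⟩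
        have hcomm : ∀ {a : P}, a ∈ A → ∀ p : P, ⁅p, a⁆ ∈ A := fun h p => comm_mem_of_normal hA.normal h p
        have e1 : ⁅y, b ^ 2 ^ (i - 1) * a⁆ = ⁅y, b ^ 2 ^ (i - 1)⁆ * ⁅y, a⁆ := by
          have e : ⁅y, b ^ 2 ^ (i - 1) * a⁆ =
              ⁅y, b ^ 2 ^ (i - 1)⁆ * (b ^ 2 ^ (i - 1) * ⁅y, a⁆ * (b ^ 2 ^ (i - 1))⁻¹) := by
            simp only [commutatorElement_def]; group
          rw [e, hA.comm _ hb1 _ (hcomm ha y), mul_inv_cancel_right]
        have e2 : ⁅y, b ^ 2 ^ (i - 1)⁆ = c ^ 2 ^ (i + 1) := by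
          rw [show i + 1 = 2 + (i - 1) by omega, pow_add 2 2 (i - 1), pow_mul, hcb]
          rw [commutatorElement_def, commutatorElement_def,
            hA.mul_pow (hA.normal.conj_mem b hb y) (inv_mem hb), conj_pow, inv_pow]
        have e3 : b ^ 2 ^ (i - 1) * b ^ 2 ^ (i - 1) = b ^ 2 ^ i := by
          rw [← pow_add, ← two_mul, ← pow_succ', Nat.sub_add_cancel hi1]
        have hX : c ^ 2 ^ (i + 1) ∈ A := pow_mem hc _
        rw [inv_pow] at haa
        rw [e1, e2]
        calc c ^ 2 ^ (i + 1) * ⁅y, a⁆ * (b ^ 2 ^ (i - 1) * a) * (b ^ 2 ^ (i - 1) * a)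
            = c ^ 2 ^ (i + 1) * ⁅y, a⁆ * ((b ^ 2 ^ (i - 1) * a) * (b ^ 2 ^ (i - 1) * a)) := by group
          _ = c ^ 2 ^ (i + 1) * ⁅y, a⁆ * ((a * a) * (b ^ 2 ^ (i - 1) * b ^ 2 ^ (i - 1))) := by
              rw [← pow_two, hA.mul_pow hb1 ha, pow_two, pow_two,
                hA.comm _ (mul_mem hb1 hb1) _ (mul_mem ha ha)]
          _ = c ^ 2 ^ (i + 1) * (⁅y, a⁆ * a * a) * (b ^ 2 ^ (i - 1) * b ^ 2 ^ (i - 1)) := by group
          _ = _ := by rw [haa, mul_inv_cancel, one_mul, e3]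
    obtain ⟨a, ha, haa⟩ := happ k 1 le_rfl (by omega) e⁻¹ (inv_mem he)
    rw [pow_one, inv_pow, pow_two, hee] at haa
    exact hno a ha (by rw [haa, inv_mul_cancel])
  · have hf0 : G y σ₀ ≠ 0 := fun h0 => hyA (h y hy h0)
    have hσ1 : σ₀ = RingEquiv.refl F := by
      have h1 : (fun τ => if τ = σ₀.trans σ₀ then G y σ₀ * σ₀ (G y σ₀) else 0) =
          fun τ => if τ = σ₀ then G y σ₀ else 0 := by
        refine autSum_injective fun x => ?_
        simp only [ite_mul, zero_mul, Finset.sum_ite_eq', Finset.mem_univ, if_true]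
        rw [RingEquiv.trans_apply, mul_assoc, ← map_mul]
        exact hidem x
      by_contra hne
      have hne' : σ₀ ≠ σ₀.trans σ₀ := fun e => hne (RingEquiv.ext fun x => by
        have := RingEquiv.congr_fun e x
        exact (σ₀.injective this).symm)
      have := congrFun h1 σ₀
      simp only [if_neg hne', if_true] at this
      exact hf0 this.symm
    subst hσ1
    have hf1 : G y (RingEquiv.refl F) = 1 := by
      have := hidem 1
      simp only [RingEquiv.refl_apply, mul_one] at this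
      exact mul_left_cancel₀ hf0 (this.trans (mul_one _).symm)
    have hsp : ∀ a ∈ A, d.ι (⁅y, a⁆ ^ 2 ^ (k - 1 - 1)) = d.pi k a := fun a ha => by
      rw [hspec y hy a ha, hf1, one_mul, RingEquiv.refl_apply]
    -- fixed points of `y` in `A` are involutions
    have hfix : ∀ z ∈ A, y * z = z * y → z * z = 1 := by
      intro z hz hyz
      have key : ∀ i, i ≤ k - 1 → ∃ b ∈ A, b ^ 2 ^ i = z := by
        intro i
        induction i with
        | zero => exact fun _ => ⟨z, hz, by simp⟩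
        | succ i ih =>
          intro hi
          obtain ⟨b, hb, hbz⟩ := ih (by omega)
          have h1 : ⁅y, b⁆ ^ 2 ^ (k - 1 - 1) = 1 := by
            obtain ⟨l, hl⟩ := Nat.le.dest (show i ≤ k - 1 - 1 by omega)
            rw [← hl, pow_add, pow_mul]
            rw [commutatorElement_def, hA.mul_pow (hA.normal.conj_mem b hb y) (inv_mem hb),
              conj_pow, inv_pow, hbz, hyz, mul_inv_cancel_right, mul_inv_cancel, one_pow]
          have h2 : d.pi k b = 0 := by rw [← hsp b hb, h1, d.ι_one]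
          obtain ⟨c, hc, hcb⟩ := hA.exists_sq hb h2
          refine ⟨c, hc, ?_⟩
          rw [← hbz, ← hcb, ← pow_two, ← pow_mul, ← pow_succ']
      obtain ⟨b, hb, rfl⟩ := key (k - 1) le_rfl
      exact hA.top_sq hb
    have hfy : y * (y * y) = y * y * y := (mul_assoc y y y).symm
    have hcV := hfix _ hyy hfy
    have hφV : ∀ a ∈ A, y * a * y⁻¹ * a * (y * a * y⁻¹ * a) = 1 := by
      intro a ha
      have hya := hA.normal.conj_mem a ha y
      refine hfix _ (mul_mem hya ha) ?_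
      calc y * (y * a * y⁻¹ * a) = (y * y) * a * (y⁻¹ * a) := by group
        _ = a * (y * y) * (y⁻¹ * a) := by rw [hA.comm _ hyy a ha]
        _ = a * (y * a * y⁻¹) * y := by group
        _ = (y * a * y⁻¹) * a * y := by rw [hA.comm a ha _ hya]
    -- `g y = y a₀`
    have ha0 : y⁻¹ * d.g y ∈ A := by
      refine h _ (mul_mem (inv_mem hy) (hB.inv y hy)) ?_
      have h1 := hG.add _ (inv_mem hy) _ hy
      rw [inv_mul_cancel, hG.vanish 1 (one_mem B) (one_mem A)] at h1
      rw [hG.add _ (inv_mem hy) _ (hB.inv y hy), Pi.add_apply, hG.equiv y hy,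
        show d.lam (RingEquiv.refl F) = 1 from div_self d.ω_ne_zero, one_mul]
      exact (congrFun h1 _).symm
    have hga : ∀ a ∈ A, d.g (y * a * y⁻¹ * a) = y * d.g a * y⁻¹ * d.g a := by
      intro a ha
      calc d.g (y * a * y⁻¹ * a) = d.g y * d.g a * (d.g y)⁻¹ * d.g a := by simp
        _ = y * ((y⁻¹ * d.g y) * d.g a) * (y⁻¹ * d.g y)⁻¹ * y⁻¹ * d.g a := by group
        _ = y * (d.g a * (y⁻¹ * d.g y)) * (y⁻¹ * d.g y)⁻¹ * y⁻¹ * d.g a := by
            rw [hA.comm _ ha0 _ (hA.inv a ha)]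
        _ = _ := by group
    have hcne : d.ι (y * y) ≠ 0 := fun h0 =>
      hno 1 (one_mem A) (by
        rw [d.ι_eq_zero _ hcV h0]
        simp)
    by_cases hφ : ∃ a ∈ A, y * a * y⁻¹ * a ≠ 1
    · obtain ⟨a, ha, hne⟩ := hφ
      have hmul : ∀ a ∈ A, ∀ b ∈ A,
          y * (a * b) * y⁻¹ * (a * b) = (y * a * y⁻¹ * a) * (y * b * y⁻¹ * b) := by
        intro a ha b hb
        calc y * (a * b) * y⁻¹ * (a * b) = (y * a * y⁻¹) * ((y * b * y⁻¹) * a) * b := by group
          _ = (y * a * y⁻¹) * (a * (y * b * y⁻¹)) * b := by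
              rw [hA.comm a ha _ (hA.normal.conj_mem b hb y)]
          _ = _ := by group
      let W : AddSubgroup F :=
        { carrier := {x | ∃ b ∈ A, d.ι (y * b * y⁻¹ * b) = x}
          zero_mem' := ⟨1, one_mem A, by simp [d.ι_one]⟩
          add_mem' := by
            rintro x x' ⟨b, hb, rfl⟩ ⟨b', hb', rfl⟩
            exact ⟨b * b', mul_mem hb hb', by
              rw [hmul b hb b' hb', d.ι_mul _ _ (hφV b hb) (hφV b' hb')]⟩
          neg_mem' := by
            rintro x ⟨b, hb, rfl⟩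
            exact ⟨b, hb, eq_neg_of_add_eq_zero_left (CharTwo.add_self_eq_zero _)⟩ }
      obtain ⟨b, hb, hbι⟩ := d.span W _ (fun h0 => hne (d.ι_eq_zero _ (hφV a ha) h0)) ⟨a, ha, rfl⟩
        (by
          rintro x ⟨b, hb, rfl⟩
          exact ⟨d.g b, hA.inv b hb, by rw [← hga b hb, d.ι_g _ (hφV b hb)]⟩) (d.ι (y * y))
      refine hno _ hb ?_
      rw [show ⁅y, b⁆ * b * b = y * b * y⁻¹ * b by rw [commutatorElement_def]; group,
        d.ι_inj (hφV b hb) hcV hbι, hcV]
    · simp only [not_exists, not_and, not_not] at hφ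
      have hgc : d.g (y * y) = y * y := by
        calc d.g (y * y) = d.g y * d.g y := map_mul _ _ _
          _ = (y * (y⁻¹ * d.g y) * y⁻¹) * (y * y) * (y⁻¹ * d.g y) := by group
          _ = (y * (y⁻¹ * d.g y) * y⁻¹) * ((y⁻¹ * d.g y) * (y * y)) := by
              rw [hA.comm _ ha0 _ hyy]; group
          _ = _ := by rw [← mul_assoc, hφ _ ha0, one_mul]
      have h2 := d.ι_g _ hcV
      rw [hgc] at h2
      exact d.ω_ne_one ((mul_left_eq_self₀.1 h2.symm).resolve_right hcne)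

/-- The case `k = 2`. -/
lemma of_exp_four (hA : d.Homo A 2) (hC : ∀ x : P, (∀ a ∈ A, x * a = a * x) → x ∈ A) :
    (∀ p : P, p * p ∈ d.V) ∧ ∀ p q : P, ⁅p, q⁆ ∈ d.V := by
  classical
  haveI := d.finite
  have hBi : d.Inv ⊤ := fun _ _ => Subgroup.mem_top _
  obtain ⟨G, hG⟩ := exists_coeff (B := ⊤) (j := 1) hA hBi (by norm_num)
    (fun p _ a ha => comm_pow_top hA p ha)
  have T : ∀ p : P, p ∈ (⊤ : Subgroup P) := Subgroup.mem_top
  have hone : G 1 = 0 := hG.vanish 1 (T 1) (one_mem A)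
  have hker : ∀ p, G p = 0 → p ∈ A := fun p h => hC p fun a ha => by
    have := hG.deeper p (T p) h a ha
    simpa [commutatorElement_eq_one_iff_mul_comm] using this
  have hinvG : ∀ p, G p⁻¹ = G p := fun p => by
    have h := hG.add _ (T p⁻¹) _ (T p)
    rw [inv_mul_cancel, hone] at h
    funext σ
    have := (congrFun h σ).symm
    rw [Pi.zero_apply, Pi.add_apply] at this
    exact CharTwo.add_eq_zero.1 this
  have hsqA : ∀ p : P, p * p ∈ A := fun p => hker _ (by
    rw [hG.add _ (T p) _ (T p)]; funext σ; exact CharTwo.add_self_eq_zero _)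
  have hcmA : ∀ p q : P, ⁅p, q⁆ ∈ A := fun p q => hker _ (by
    rw [commutatorElement_def, hG.add _ (T _) _ (T _), hG.add _ (T _) _ (T _),
      hG.add _ (T p) _ (T q), hinvG, hinvG]
    funext σ
    simp only [Pi.add_apply, Pi.zero_apply]
    linear_combination CharTwo.add_self_eq_zero (G p σ) + CharTwo.add_self_eq_zero (G q σ))
  have hsqV : ∀ p : P, ∀ a ∈ A, ⁅p, a⁆ * ⁅p, a⁆ = 1 := fun p a ha => by
    simpa [pow_two] using comm_pow_top hA p ha
  have hspec : ∀ p a, a ∈ A → d.ι ⁅p, a⁆ = ∑ σ, G p σ * σ (d.pi 2 a) := fun p a ha => by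
    simpa using hG.spec p (T p) a ha
  -- a single coefficient
  let Pure : (F ≃+* F) → P → Prop := fun σ y => ∀ τ, τ ≠ σ → G y τ = 0
  have hpure : ∀ σ y a, Pure σ y → a ∈ A → d.ι ⁅y, a⁆ = G y σ * σ (d.pi 2 a) := by
    intro σ y a hy ha
    rw [hspec y a ha]
    exact Finset.sum_eq_single σ (fun τ _ hτ => by rw [hy τ hτ, zero_mul])
      (fun h => absurd (Finset.mem_univ _) h)
  have hc : ∀ σ y, Pure σ y → d.pi 2 (y * y) = 0 := by
    intro σ y hy
    have h := hpure σ y _ hy (hsqA y)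
    rw [commutatorElement_eq_one_iff_mul_comm.2 (mul_assoc y y y).symm, d.ι_one] at h
    rcases mul_eq_zero.1 h.symm with h | h
    · refine hA.pi_sq (hker y (funext fun τ => ?_))
      by_cases hτ : τ = σ
      · rw [hτ]; exact h
      · exact hy τ hτ
    · exact σ.map_eq_zero_iff.1 h
  have hyV : ∀ σ y, Pure σ y → y * y * (y * y) = 1 := fun σ y hy => by
    obtain ⟨b, hb, hbb⟩ := hA.exists_sq (hsqA y) (hc σ y hy)
    rw [← hbb]
    simpa [pow_two] using hA.top_sq hb
  -- `y` acts on `A` with fixed points modulo `V`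
  have hno : ∀ σ y, Pure σ y → y ∉ A → ∀ x, G y σ * σ x + x ≠ d.ι (y * y) := by
    intro σ y hy hyA x hx
    obtain ⟨a, ha, rfl⟩ := hA.pi_surj x
    refine hyA (mem_of_mul_self_eq_one hA ha (y := y) ?_)
    have e : y * a * (y * a) = ⁅y, a⁆ * (a * (y * y)) * a := by rw [commutatorElement_def]; group
    have hsq2 : a * a * (a * a) = 1 := by simpa [pow_two] using hA.top_sq ha
    rw [e, hA.comm a ha _ (hsqA y), mul_assoc, mul_assoc (y * y), ← mul_assoc]
    refine d.ι_eq_zero _ (d.sq_one_mul (d.sq_one_mul (hsqV y a ha) (hyV σ y hy)) hsq2) ?_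
    rw [d.ι_mul _ _ (d.sq_one_mul (hsqV y a ha) (hyV σ y hy)) hsq2,
      d.ι_mul _ _ (hsqV y a ha) (hyV σ y hy), hpure σ y a hy ha, ← hx]
    have hpi : d.pi 2 a = d.ι (a * a) := by simp [pi, pow_two]
    rw [← hpi]
    linear_combination CharTwo.add_self_eq_zero (G y σ * σ (d.pi 2 a)) +
      CharTwo.add_self_eq_zero (d.pi 2 a)
  have hne : ∀ σ y, Pure σ y → y ∉ A → G y σ ≠ 0 := fun σ y hy hyA h => hyA (hker y (funext fun τ => by
    by_cases hτ : τ = σ
    · rw [hτ]; exact h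
    · exact hy τ hτ))
  have hkap : ∀ σ y, Pure σ y → y ∉ A → ∃ x, x ≠ 0 ∧ G y σ * σ x = x := by
    intro σ y hy hyA
    by_contra hno'
    simp only [not_exists, not_and] at hno'
    let φ : F →+ F := AddMonoidHom.mk' (fun x => G y σ * σ x + x) (fun x z => by rw [map_add]; ring)
    have hinj : Function.Injective φ := (injective_iff_map_eq_zero φ).2 fun x hx => by
      by_contra hx0
      exact hno' x hx0 (CharTwo.add_eq_zero.1 hx)
    obtain ⟨x, hx⟩ := Finite.injective_iff_surjective.1 hinj (d.ι (y * y))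
    exact hno σ y hy hyA x hx
  -- a coset fixed by a power of `g`
  have hshift : ∀ σ y j, Pure σ y → y ∉ A → (d.lam σ) ^ j = 1 → d.ω ^ j = 1 := by
    intro σ y j hy hyA hl
    have hgp : ∀ m, G ((d.g ^ m) y) = fun τ => d.lam τ ^ m * G y τ := by
      intro m
      induction m with
      | zero => funext τ; simp
      | succ m ih =>
        funext τ
        rw [pow_succ', MulAut.mul_apply, hG.equiv _ (T _), ih, pow_succ']
        ring
    have ha0 : y⁻¹ * (d.g ^ j) y ∈ A := hker _ (by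
      rw [hG.add _ (T _) _ (T _), hinvG, hgp]
      funext τ
      by_cases hτ : τ = σ
      · rw [Pi.add_apply, hτ, hl, one_mul, Pi.zero_apply, CharTwo.add_self_eq_zero]
      · simp [hy τ hτ])
    set a := y⁻¹ * (d.g ^ j) y with ha
    have hsq2 : a * a * (a * a) = 1 := by simpa [pow_two] using hA.top_sq ha0
    have h1 : (d.g ^ j) (y * y) = ⁅y, a⁆ * (y * y) * (a * a) := by
      rw [map_mul, show (d.g ^ j) y = y * a by rw [ha, mul_inv_cancel_left]]
      have e : y * a * (y * a) = ⁅y, a⁆ * (a * (y * y)) * a := by rw [commutatorElement_def]; group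
      rw [e, hA.comm a ha0 _ (hsqA y)]
      group
    have h2 := d.ι_g_pow j (hyV σ y hy)
    rw [h1, d.ι_mul _ _ (d.sq_one_mul (hsqV y a ha0) (hyV σ y hy)) hsq2,
      d.ι_mul _ _ (hsqV y a ha0) (hyV σ y hy), hpure σ y a hy ha0,
      show d.ι (a * a) = d.pi 2 a by simp [pi, pow_two]] at h2
    by_contra hu
    have hu' : d.ω ^ j + 1 ≠ 0 := fun h => hu (CharTwo.add_eq_zero.1 h)
    have hσu : σ (d.ω ^ j) = d.ω ^ j := by
      have : σ d.ω ≠ 0 := fun h => d.ω_ne_zero (σ.map_eq_zero_iff.1 h)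
      rw [lam, div_pow, div_eq_one_iff_eq (pow_ne_zero _ this)] at hl
      rw [map_pow, hl]
    refine hno σ y hy hyA (d.pi 2 a / (d.ω ^ j + 1)) ?_
    rw [map_div₀, map_add, map_one, hσu]
    field_simp
    linear_combination h2 + CharTwo.add_self_eq_zero (d.ι (y * y)) * 0 -
      CharTwo.add_self_eq_zero (d.ι (y * y))
  have hrefl : ∀ y, Pure (RingEquiv.refl F) y → y ∈ A := by
    intro y hy
    by_contra hyA
    have := hshift _ y 1 hy hyA (by rw [pow_one]; exact div_self d.ω_ne_zero)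
    rw [pow_one] at this
    exact d.ω_ne_one this
  -- commutators modulo squares
  let D : P → P → F := fun p q => d.pi 2 ⁅p, q⁆
  have hDsym : ∀ p q, D p q = D q p := by
    intro p q
    show d.pi 2 _ = d.pi 2 _
    rw [← commutatorElement_inv]
    have h := hA.pi_mul (inv_mem (hcmA q p)) (hcmA q p)
    rw [inv_mul_cancel, pi_eq_zero_of_sq hA le_rfl (mul_one 1)] at h
    exact CharTwo.add_eq_zero.1 h.symm
  have hconj : ∀ (p a : P), a ∈ A → d.pi 2 (p * a * p⁻¹) = d.pi 2 a := by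
    intro p a ha
    simp only [pi, conj_pow]
    rw [d.comm_of_sq_one (hA.top_sq ha) p, mul_inv_cancel_right]
  have hDadd : ∀ p q r, D (p * q) r = D p r + D q r := by
    intro p q r
    show d.pi 2 _ = _
    rw [show ⁅p * q, r⁆ = p * ⁅q, r⁆ * p⁻¹ * ⁅p, r⁆ by simp only [commutatorElement_def]; group,
      hA.pi_mul (hA.normal.conj_mem _ (hcmA q r) p) (hcmA p r), hconj _ _ (hcmA q r), add_comm]
  have hDA : ∀ p a, a ∈ A → D p a = 0 := fun p a ha =>
    pi_eq_zero_of_sq hA le_rfl (hsqV p a ha)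
  have hDfix : ∀ σ y q, Pure σ y → G y σ * σ (D y q) = D y q := by
    intro σ y q hy
    have h1 : ⁅y * y, q⁆ = 1 := commutatorElement_eq_one_iff_mul_comm.2
      (d.comm_of_sq_one (hyV σ y hy) q).symm
    have h2 : ⁅y * y, q⁆ = ⁅y, ⁅y, q⁆⁆ * (⁅y, q⁆ * ⁅y, q⁆) := by
      simp only [commutatorElement_def]; group
    rw [h2] at h1
    have h3 : ⁅y, q⁆ * ⁅y, q⁆ * (⁅y, q⁆ * ⁅y, q⁆) = 1 := by
      simpa [pow_two] using hA.top_sq (hcmA y q)
    have h4 := congrArg d.ι h1
    rw [d.ι_mul _ _ (hsqV y _ (hcmA y q)) h3, d.ι_one, hpure σ y _ hy (hcmA y q)] at h4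
    have h5 : d.ι (⁅y, q⁆ * ⁅y, q⁆) = D y q := by simp [D, pi, pow_two]
    rw [h5] at h4
    exact CharTwo.add_eq_zero.1 h4
  have hDpure : ∀ σ y, Pure σ y → ∀ τ q, Pure τ q → D y q = 0 := by
    intro σ y hy τ q hq
    by_contra hne0
    have hyA : y ∉ A := fun h => hne0 (by rw [hDsym]; exact hDA q y h)
    have hqA : q ∉ A := fun h => hne0 (hDA y q h)
    have hGy := hne σ y hy hyA
    have hGq := hne τ q hq hqA
    have hcommute : ∀ u, τ (σ u) = σ (τ u) := by
      intro u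
      obtain ⟨i, hi⟩ := d.frob σ
      rw [hi, hi, map_pow]
    -- the ratios of coefficients of type `σ` are fixed by `τ`
    have hrat : ∀ z, Pure σ z → D z q ≠ 0 → τ (G z σ / G y σ) = G z σ / G y σ := by
      intro z hz hzq
      have a1 := hDfix τ q z hq
      have a2 := hDfix τ q y hq
      have b1 := hDfix σ z q hz
      have b2 := hDfix σ y q hy
      rw [hDsym q z] at a1
      rw [hDsym q y] at a2
      have hu : τ (D z q / D y q) = D z q / D y q := by
        rw [map_div₀, div_eq_div_iff (fun h => hne0 (τ.map_eq_zero_iff.1 h)) hne0]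
        refine mul_left_cancel₀ hGq ?_
        linear_combination D y q * a1 - D z q * a2
      have hsz : σ (D z q) ≠ 0 := fun h => hzq (σ.map_eq_zero_iff.1 h)
      have hsy : σ (D y q) ≠ 0 := fun h => hne0 (σ.map_eq_zero_iff.1 h)
      have e : G z σ / G y σ = (D z q / D y q) / σ (D z q / D y q) := by
        rw [show G z σ = D z q / σ (D z q) from eq_div_of_mul_eq hsz b1,
          show G y σ = D y q / σ (D y q) from eq_div_of_mul_eq hsy b2, map_div₀]
        field_simp
      rw [e, map_div₀ τ (D z q / D y q), hcommute, hu]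
    have hrat' : ∀ z, Pure σ z → τ (G z σ / G y σ) = G z σ / G y σ := by
      intro z hz
      by_cases hzq : D z q = 0
      · have hyz : Pure σ (y * z) := fun ρ hρ => by
          rw [hG.add _ (T _) _ (T _), Pi.add_apply, hy ρ hρ, hz ρ hρ, add_zero]
        have h2 := hrat _ hyz (by rw [hDadd, hzq, add_zero]; exact hne0)
        rw [hG.add _ (T _) _ (T _), Pi.add_apply, add_div, div_self hGy, map_add, map_one] at h2
        exact add_left_cancel h2
      · exact hrat z hz hzq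
    have hgy : Pure σ (d.g y) := fun ρ hρ => by rw [hG.equiv y (T y), hy ρ hρ, mul_zero]
    have hlam := hrat' _ hgy
    rw [hG.equiv y (T y), mul_div_cancel_right₀ _ hGy] at hlam
    -- the weight is a power of `ω` fixed by `τ`
    obtain ⟨i, hi⟩ := d.frob σ
    set j := 1 + (orderOf d.ω - 1) * i with hj
    have hσ0 : σ d.ω ≠ 0 := fun h => d.ω_ne_zero (σ.map_eq_zero_iff.1 h)
    have hlj : d.lam σ = d.ω ^ j := by
      rw [lam, div_eq_iff hσ0, hi, ← pow_add, hj, add_assoc,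
        show (orderOf d.ω - 1) * i + i = orderOf d.ω * i by
          obtain ⟨o, ho⟩ := Nat.exists_eq_succ_of_ne_zero d.finiteOrder.ne'
          rw [ho]; simp [Nat.succ_mul],
        pow_add, pow_mul, pow_orderOf_eq_one, one_pow, pow_one, mul_one]
    have hτj : d.lam τ ^ j = 1 := by
      rw [lam, div_pow, ← map_pow, ← hlj, hlam]
      exact div_self (lam_ne_zero σ)
    have h6 : d.lam σ = 1 := by rw [hlj]; exact hshift τ q j hq hqA hτj
    rw [lam_eq_one h6] at hy
    exact hyA (hrefl y hy)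
  -- everything is a product of pure elements
  have hdec : ∀ Q : Subgroup P, A ≤ Q → (∀ σ y, Pure σ y → y ∈ Q) → ∀ p, p ∈ Q := by
    intro Q hAQ hQ
    have key : ∀ (s : Finset (F ≃+* F)) (p : P), (∀ τ, τ ∉ s → G p τ = 0) → p ∈ Q := by
      intro s
      induction s using Finset.induction with
      | empty => exact fun p hp => hAQ (hker p (funext fun τ => hp τ (by simp)))
      | insert σ s _ ih =>
        intro p hp
        obtain ⟨y, -, hy1, hy0⟩ := hG.project hBi σ (T p)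
        have h1 : p * y ∈ Q := ih _ (fun τ hτ => by
          rw [hG.add _ (T _) _ (T _), Pi.add_apply]
          by_cases hτσ : τ = σ
          · rw [hτσ, hy1, CharTwo.add_self_eq_zero]
          · rw [hy0 τ hτσ, hp τ (by simp [hτσ, hτ]), add_zero])
        exact (Subgroup.mul_mem_cancel_right Q (hQ σ y hy0)).1 h1
    exact fun p => key Finset.univ p (by simp)
  have hD0 : ∀ p q, D p q = 0 := by
    have h1 : ∀ τ q, Pure τ q → ∀ p, D p q = 0 := by
      intro τ q hq
      let Q : Subgroup P :=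
        { carrier := {p | D p q = 0}
          one_mem' := by show D 1 q = 0; rw [hDsym]; exact hDA q 1 (one_mem A)
          mul_mem' := fun {a b} ha hb => by show D (a * b) q = 0; rw [hDadd, ha, hb, add_zero]
          inv_mem' := fun {a} ha => by
            show D a⁻¹ q = 0
            have := hDadd a⁻¹ a q
            rw [inv_mul_cancel, hDsym 1, hDA q 1 (one_mem A), show D a q = 0 from ha, add_zero] at this
            exact this.symm }
      exact hdec Q (fun a ha => by show D a q = 0; rw [hDsym]; exact hDA q a ha)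
        (fun σ y hy => hDpure σ y hy τ q hq)
    intro p
    let Q : Subgroup P :=
      { carrier := {q | D q p = 0}
        one_mem' := by show D 1 p = 0; rw [hDsym]; exact hDA p 1 (one_mem A)
        mul_mem' := fun {a b} ha hb => by show D (a * b) p = 0; rw [hDadd, ha, hb, add_zero]
        inv_mem' := fun {a} ha => by
          show D a⁻¹ p = 0
          have := hDadd a⁻¹ a p
          rw [inv_mul_cancel, hDsym 1, hDA p 1 (one_mem A), show D a p = 0 from ha, add_zero] at this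
          exact this.symm }
    intro q
    rw [hDsym]
    exact hdec Q (fun a ha => by show D a p = 0; rw [hDsym]; exact hDA p a ha)
      (fun σ y hy => by show D y p = 0; rw [hDsym]; exact h1 σ y hy p) q
  have hinV : ∀ a ∈ A, d.pi 2 a = 0 → a ∈ d.V := fun a ha h => by
    obtain ⟨b, hb, hbb⟩ := hA.exists_sq ha h
    rw [← hbb, d.mem_V]
    simpa [pow_two] using hA.top_sq hb
  have hcm : ∀ p q, ⁅p, q⁆ ∈ d.V := fun p q => hinV _ (hcmA p q) (hD0 p q)
  refine ⟨fun p => hinV _ (hsqA p) ?_, hcm⟩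
  have hc2 : ∀ p q, d.pi 2 (p * q * (p * q)) = d.pi 2 (p * p) + d.pi 2 (q * q) := by
    intro p q
    have hz := hcm q p
    have e : p * q * (p * q) = ⁅q, p⁆ * (p * p) * (q * q) := by
      calc p * q * (p * q) = p * ⁅q, p⁆ * p * (q * q) := by rw [commutatorElement_def]; group
        _ = _ := by rw [d.comm_of_sq_one hz p]; group
    rw [e, hA.pi_mul (mul_mem (hcmA q p) (hsqA p)) (hsqA q), hA.pi_mul (hcmA q p) (hsqA p),
      pi_eq_zero_of_sq hA le_rfl hz, zero_add]
  let Q : Subgroup P :=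
    { carrier := {p | d.pi 2 (p * p) = 0}
      one_mem' := pi_eq_zero_of_sq hA le_rfl (by simp)
      mul_mem' := fun {a b} ha hb => by
        show d.pi 2 _ = 0
        rw [hc2, ha, hb, add_zero]
      inv_mem' := fun {a} ha => by
        show d.pi 2 _ = 0
        have := hc2 a⁻¹ a
        rw [inv_mul_cancel, show d.pi 2 (a * a) = 0 from ha, add_zero,
          pi_eq_zero_of_sq hA le_rfl (by simp)] at this
        exact this.symm }
  exact hdec Q (fun a ha => hA.pi_sq ha) (fun σ y hy => hc σ y hy) p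

/-- The case that every abelian normal invariant subgroup is elementary. -/
lemma of_no_abelian (hsmall : ∀ W : Subgroup P, W.Normal → d.Inv W →
      (∀ a ∈ W, ∀ b ∈ W, a * b = b * a) → d.V ≤ W → W = d.V) :
    (∀ p : P, p * p ∈ d.V) ∧ ∀ p q : P, ⁅p, q⁆ ∈ d.V := by
  classical
  haveI := d.finite
  obtain ⟨E, -, hE⟩ := Finite.exists_le_maximal
    (p := fun E : Subgroup P => E.Normal ∧ d.Inv E ∧ d.V ≤ E ∧
      (∀ x ∈ E, x * x ∈ d.V) ∧ ∀ x ∈ E, ∀ y ∈ E, ⁅x, y⁆ ∈ d.V)
    (a := d.V) ⟨d.normal_V, d.inv_V, le_rfl, fun x hx => mul_mem hx hx, fun x hx y hy => by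
      rw [commutatorElement_eq_one_iff_mul_comm.2 (d.comm_of_sq_one hy x)]
      exact one_mem _⟩
  obtain ⟨hEn, hEi, hVE, hEsq, hEcm⟩ := hE.prop
  by_cases htop : E = ⊤
  · exact ⟨fun p => hEsq p (by rw [htop]; trivial),
      fun p q => hEcm p (by rw [htop]; trivial) q (by rw [htop]; trivial)⟩
  exfalso
  obtain ⟨B, hB, -⟩ := d.exists_step hEn hEi inferInstance (fun _ _ => Subgroup.mem_top _)
    (lt_top_iff_ne_top.2 htop)
  -- the radical of an invariant normal subgroup of `E`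
  have hrad : ∀ W : Subgroup P, W.Normal → d.Inv W → d.V ≤ W → W ≤ E →
      ∀ x ∈ W, (∀ w ∈ W, x * w = w * x) → x ∈ d.V := by
    intro W hWn hWi hVW hWE x hx hxc
    let R : Subgroup P := W ⊓ Subgroup.centralizer (W : Set P)
    haveI := hWn
    have hRn : R.Normal := inferInstance
    have hRi : d.Inv R := by
      rintro z ⟨hz, hzc⟩
      refine ⟨hWi z hz, Subgroup.mem_centralizer_iff.2 fun w hw => ?_⟩
      replace hzc := Subgroup.mem_centralizer_iff.1 hzc
      obtain ⟨v, rfl⟩ := d.g.surjective w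
      rw [← map_mul, ← map_mul, hzc v (g_inv_mem hWi hw)]
    have hRc : ∀ a ∈ R, ∀ b ∈ R, a * b = b * a := fun a ha b hb =>
      Subgroup.mem_centralizer_iff.1 hb.2 a ha.1
    have hVR : d.V ≤ R := fun v hv => ⟨hVW hv, Subgroup.mem_centralizer_iff.2 fun w _ =>
      d.comm_of_sq_one hv w⟩
    rw [← hsmall R hRn hRi hRc hVR]
    exact ⟨hx, Subgroup.mem_centralizer_iff.2 fun w hw => (hxc w hw).symm⟩
  haveI := d.normal_V
  -- `W₁`: the part of `E` centralised by `B` modulo `V`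
  let W₁ : Subgroup P :=
    { carrier := {x | x ∈ E ∧ ∀ p ∈ B, ⁅p, x⁆ ∈ d.V}
      one_mem' := ⟨one_mem E, fun p _ => by simp⟩
      mul_mem' := fun {x y} hx hy => ⟨mul_mem hx.1 hy.1, fun p hp => by
        have e : ⁅p, x * y⁆ = ⁅p, x⁆ * (x * ⁅p, y⁆ * x⁻¹) := by
          simp only [commutatorElement_def]; group
        rw [e]; exact mul_mem (hx.2 p hp) (d.normal_V.conj_mem _ (hy.2 p hp) x)⟩
      inv_mem' := fun {x} hx => ⟨inv_mem hx.1, fun p hp => by
        have e : ⁅p, x⁻¹⁆ = x⁻¹ * ⁅p, x⁆⁻¹ * x := by simp only [commutatorElement_def]; group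
        rw [e]; simpa using d.normal_V.conj_mem _ (inv_mem (hx.2 p hp)) x⁻¹⟩ }
  have hW1n : W₁.Normal := ⟨fun x hx q => ⟨hEn.conj_mem x hx.1 q, fun p hp => by
    have e : ⁅p, q * x * q⁻¹⁆ = q * ⁅q⁻¹ * p * q, x⁆ * q⁻¹ := by
      simp only [commutatorElement_def]; group
    rw [e]
    refine d.normal_V.conj_mem _ (hx.2 _ ?_) q
    simpa using hB.normal.conj_mem p hp q⁻¹⟩⟩
  have hW1i : d.Inv W₁ := fun x hx => ⟨hEi x hx.1, fun p hp => by
    obtain ⟨q, rfl⟩ := d.g.surjective p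
    rw [← map_commutatorElement]
    exact d.inv_V _ (hx.2 q (g_inv_mem hB.inv hp))⟩
  have hVW1 : d.V ≤ W₁ := fun v hv => ⟨hVE hv, fun p _ => by
    rw [commutatorElement_eq_one_iff_mul_comm.2 (d.comm_of_sq_one hv p)]; exact one_mem _⟩
  have hW2 : ∀ w ∈ E, (∀ p ∈ B, ⁅p, w⁆ ∈ W₁) → w ∈ W₁ := by
    intro w hw hw2
    refine ⟨hw, fun p hp => ?_⟩
    have hself : ∀ w ∈ E, (∀ p ∈ B, ⁅p, w⁆ ∈ W₁) →
        d.ι (⁅p, w⁆ * ⁅p, w⁆) + d.ι ⁅w, ⁅p, w⁆⁆ = 0 := by
      intro w hw hw2
      set u := ⁅p, w⁆ with hu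
      have huE : u ∈ E := (hw2 p hp).1
      have h1 : u * w * (u * w) = w * w := by
        calc u * w * (u * w) = p * (w * w) * p⁻¹ := by rw [hu, commutatorElement_def]; group
          _ = w * w := by rw [d.comm_of_sq_one (hEsq w hw) p, mul_inv_cancel_right]
      have h2 : u * w * (u * w) = u * (⁅w, u⁆ * u) * (w * w) := by
        rw [commutatorElement_def]; group
      have h3 : u * u * ⁅w, u⁆ = 1 := by
        rw [h2, mul_eq_right, ← d.comm_of_sq_one (hEcm w hw u huE) u, ← mul_assoc] at h1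
        exact h1
      have h4 := congrArg d.ι h3
      rwa [d.ι_mul _ _ (hEsq u huE) (hEcm w hw u huE), d.ι_one] at h4
    refine hrad W₁ hW1n hW1i hVW1 (fun x hx => hx.1) _ (hw2 p hp) (fun x hx => ?_)
    set u := ⁅p, w⁆ with hu
    have huE : u ∈ E := (hw2 p hp).1
    set v := w * ⁅p, x⁆ * w⁻¹ with hv
    have hvV : v * v = 1 := d.normal_V.conj_mem _ (hx.2 p hp) w
    have e : ⁅p, w * x⁆ = u * v := by
      rw [hu, hv]; simp only [commutatorElement_def]; group
    have hx' := hself (w * x) (mul_mem hw hx.1) (fun q hq => by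
      have e' : ⁅q, w * x⁆ = ⁅q, w⁆ * (w * ⁅q, x⁆ * w⁻¹) := by
        simp only [commutatorElement_def]; group
      rw [e']
      exact mul_mem (hw2 q hq) (hVW1 (d.normal_V.conj_mem _ (hx.2 q hq) w)))
    have h0 := hself w hw hw2
    rw [e] at hx'
    have e1 : u * v * (u * v) = u * u := by
      calc u * v * (u * v) = u * (v * u) * v := by group
        _ = u * (u * v) * v := by rw [← d.comm_of_sq_one hvV u]
        _ = u * u * (v * v) := by group
        _ = u * u := by rw [hvV, mul_one]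
    have e2 : ⁅w * x, u * v⁆ = ⁅w, u⁆ * ⁅x, u⁆ := by
      calc ⁅w * x, u * v⁆ = w * x * u * (v * (x⁻¹ * w⁻¹)) * v⁻¹ * u⁻¹ := by
            rw [commutatorElement_def]; group
        _ = w * x * u * ((x⁻¹ * w⁻¹) * v) * v⁻¹ * u⁻¹ := by rw [d.comm_of_sq_one hvV (x⁻¹ * w⁻¹)]
        _ = w * ⁅x, u⁆ * w⁻¹ * ⁅w, u⁆ := by simp only [commutatorElement_def]; group
        _ = _ := by
          rw [d.comm_of_sq_one (hEcm x hx.1 u huE) w, mul_inv_cancel_right,
            d.comm_of_sq_one (hEcm x hx.1 u huE)]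
    rw [e1, e2, d.ι_mul _ _ (hEcm w hw u huE) (hEcm x hx.1 u huE)] at hx'
    have h5 : d.ι ⁅x, u⁆ = 0 := by linear_combination hx' - h0
    exact (commutatorElement_eq_one_iff_mul_comm.1 (d.ι_eq_zero _ (hEcm x hx.1 u huE) h5)).symm
  have hW1E : ∀ x ∈ E, x ∈ W₁ := by
    by_contra hne
    have hlt : W₁ < E := lt_of_le_of_ne (fun x hx => hx.1) (fun h => hne (fun x hx => by rw [h]; exact hx))
    obtain ⟨C, hC, hCE⟩ := d.exists_step hW1n hW1i hEn hEi hlt
    obtain ⟨w, hw, hwW⟩ := SetLike.exists_of_lt hC.lt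
    exact hwW (hW2 w (hCE hw) fun p _ => hC.comm_mem p w hw)
  have hsq : ∀ p ∈ B, p * p ∈ d.V := by
    intro p hp
    refine hrad E hEn hEi hVE le_rfl _ (hB.sq_mem p hp) fun w hw => ?_
    have hu : ⁅p, w⁆ * ⁅p, w⁆ = 1 := (hW1E w hw).2 p hp
    rw [← commutatorElement_eq_one_iff_mul_comm]
    calc ⁅p * p, w⁆ = p * ⁅p, w⁆ * p⁻¹ * ⁅p, w⁆ := by simp only [commutatorElement_def]; group
      _ = 1 := by rw [d.comm_of_sq_one hu p, mul_inv_cancel_right, hu]
  have hcm : ∀ x ∈ B, ∀ y ∈ B, ⁅x, y⁆ ∈ d.V := by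
    intro x hx y hy
    have e : ⁅x, y⁆ = (x * x) * (x⁻¹ * (y * y) * x) * ((y⁻¹ * x⁻¹) * (y⁻¹ * x⁻¹)) *
        1 * 1 := by
      rw [commutatorElement_def]
      have h1 : x⁻¹ * (y * y) * x = y * y := by
        rw [mul_assoc, ← d.comm_of_sq_one (hsq y hy) x, inv_mul_cancel_left]
      rw [h1]
      calc x * y * x⁻¹ * y⁻¹ = x * y * x⁻¹ * y⁻¹ * 1 * 1 := by group
        _ = (x * x) * (y * y) * ((y⁻¹ * x⁻¹) * (y⁻¹ * x⁻¹)) * 1 * 1 := by
          have h2 := d.comm_of_sq_one (hsq y hy) x⁻¹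
          calc x * y * x⁻¹ * y⁻¹ * 1 * 1
              = x * (y * y) * y⁻¹ * x⁻¹ * y⁻¹ := by group
            _ = x * (x * x⁻¹) * (y * y) * y⁻¹ * x⁻¹ * y⁻¹ := by group
            _ = (x * x) * (x⁻¹ * (y * y)) * y⁻¹ * x⁻¹ * y⁻¹ := by group
            _ = (x * x) * ((y * y) * x⁻¹) * y⁻¹ * x⁻¹ * y⁻¹ := by rw [h2]
            _ = _ := by
              calc (x * x) * ((y * y) * x⁻¹) * y⁻¹ * x⁻¹ * y⁻¹
                  = (x * x) * (y * y) * (x⁻¹ * y⁻¹ * x⁻¹ * y⁻¹) := by group
                _ = (x * x) * (y * y) * ((x⁻¹ * y⁻¹) * (x⁻¹ * y⁻¹)) := by group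
                _ = _ := by
                  have h3 := d.comm_of_sq_one
                    (hsq _ (mul_mem (inv_mem hx) (inv_mem hy))) (y⁻¹)
                  have : (y⁻¹ * x⁻¹) * (y⁻¹ * x⁻¹) = (x⁻¹ * y⁻¹) * (x⁻¹ * y⁻¹) := by
                    calc (y⁻¹ * x⁻¹) * (y⁻¹ * x⁻¹)
                        = y⁻¹ * ((x⁻¹ * y⁻¹) * (x⁻¹ * y⁻¹)) * y := by group
                      _ = _ := by rw [h3, inv_mul_cancel_right]
                  rw [this, mul_one, mul_one]
    rw [e, mul_one, mul_one]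
    refine mul_mem (mul_mem (hsq x hx) ?_) (hsq _ (mul_mem (inv_mem hy) (inv_mem hx)))
    simpa using d.normal_V.conj_mem _ (hsq y hy) x⁻¹
  have := hE.le_of_ge ⟨hB.normal, hB.inv, hVE.trans hB.lt.le, hsq, hcm⟩ hB.lt.le
  exact hB.lt.not_ge this

/-- Higman's theorem: squares and commutators are involutions or trivial. -/
theorem sq_and_comm_mem_V (d : GrossData P F) :
    (∀ p : P, p * p ∈ d.V) ∧ ∀ p q : P, ⁅p, q⁆ ∈ d.V := by
  classical
  haveI := d.finite
  by_cases hex : ∃ W : Subgroup P, W.Normal ∧ d.Inv W ∧ (∀ a ∈ W, ∀ b ∈ W, a * b = b * a) ∧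
      d.V < W
  · obtain ⟨W, hWn, hWi, hWc, hVW⟩ := hex
    obtain ⟨A, hWA, hA⟩ := Finite.exists_le_maximal
      (p := fun A : Subgroup P => A.Normal ∧ d.Inv A ∧ (∀ a ∈ A, ∀ b ∈ A, a * b = b * a) ∧ d.V ≤ A)
      (a := W) ⟨hWn, hWi, hWc, hVW.le⟩
    obtain ⟨hAn, hAi, hAc, hVA⟩ := hA.prop
    obtain ⟨k, hk⟩ := d.exists_homo hAn hAi hAc hVA
    have hk2 : 2 ≤ k := by
      by_contra h
      have h1 : k = 1 := by have := hk.one_le; omega
      subst h1
      refine (hVW.trans_le hWA).not_ge fun a ha => ?_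
      have := hk.exp a ha
      rwa [pow_one, pow_two] at this
    have hC : ∀ x : P, (∀ a ∈ A, x * a = a * x) → x ∈ A := fun x hx =>
      centralizer_le hk hk2 (fun B hBn hBi hBc hAB =>
        le_antisymm (hA.le_of_ge ⟨hBn, hBi, hBc, hVA.trans hAB⟩ hAB) hAB) hx
    obtain rfl : k = 2 := le_antisymm (le_two hk hC) hk2
    exact of_exp_four hk hC
  · simp only [not_exists, not_and] at hex
    exact of_no_abelian fun W hn hi hc hV =>
      ((eq_or_lt_of_le hV).resolve_right (fun h => hex W hn hi hc h)).symm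

theorem sq_mem_V (d : GrossData P F) (p : P) : p * p ∈ d.V := d.sq_and_comm_mem_V.1 p

theorem comm_mem_V (d : GrossData P F) (p q : P) : ⁅p, q⁆ ∈ d.V := d.sq_and_comm_mem_V.2 p q

/-- The centre consists of the involutions and `1`. -/
theorem center_eq_V (d : GrossData P F) : Subgroup.center P = d.V := by
  refine le_antisymm (fun z hz => ?_) (fun v hv => d.central v hv)
  by_contra hzV
  obtain ⟨x, y, hxy⟩ := d.nonabelian
  have hzz : z * z ≠ 1 := hzV
  let W : AddSubgroup F :=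
    { carrier := {x | ∃ w ∈ Subgroup.center P, d.ι (w * w) = x}
      zero_mem' := ⟨1, one_mem _, by rw [mul_one, d.ι_one]⟩
      add_mem' := by
        rintro x x' ⟨w, hw, rfl⟩ ⟨w', hw', rfl⟩
        refine ⟨w * w', mul_mem hw hw', ?_⟩
        rw [← d.ι_mul _ _ (d.sq_mem_V w) (d.sq_mem_V w')]
        congr 1
        calc w * w' * (w * w') = w * (w' * w) * w' := by group
          _ = w * (w * w') * w' := by rw [Subgroup.mem_center_iff.1 hw w']
          _ = _ := by group
      neg_mem' := by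
        rintro x ⟨w, hw, rfl⟩
        exact ⟨w, hw, eq_neg_of_add_eq_zero_left (CharTwo.add_self_eq_zero _)⟩ }
  have hall : ∀ p, p ∈ Subgroup.center P := by
    intro p
    obtain ⟨w, hw, hwp⟩ := d.span W _ (fun h => hzz (d.ι_eq_zero _ (d.sq_mem_V z) h)) ⟨z, hz, rfl⟩
      (by
        rintro x ⟨w, hw, rfl⟩
        refine ⟨d.g w, ?_, by rw [← map_mul, d.ι_g _ (d.sq_mem_V w)]⟩
        rw [Subgroup.mem_center_iff] at hw ⊢
        intro q
        rw [← d.g.apply_symm_apply q, ← map_mul, ← map_mul, hw]) (d.ι (p * p))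
    have hww : w * w = p * p := d.ι_inj (d.sq_mem_V w) (d.sq_mem_V p) hwp
    have h1 : p * w * (p * w) = 1 := by
      calc p * w * (p * w) = p * (w * p) * w := by group
        _ = p * (p * w) * w := by rw [Subgroup.mem_center_iff.1 hw p]
        _ = (p * p) * (w * w) := by group
        _ = 1 := by rw [hww]; exact d.sq_mem_V p
    exact (Subgroup.mul_mem_cancel_right _ hw).1 (d.central _ h1)
  exact hxy (Subgroup.mem_center_iff.1 (hall y) x)

end GrossData

end Cfsg.Agent.SuzukiGross
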