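import Cfsg.Agent.Lib.SuzukiGross.Higman
import Cfsg.Agent.Lib.SuzukiGross.Exponents
import Cfsg.Agent.Lib.Huppert.Main
import Cfsg.Agent.Lib.AutPOmega.Split

/-!
A 2-group with a solvable group of automorphisms transitive on (at least two) involutions carries
`GrossData`: by Huppert the group induced on the involutions is semilinear of dimension one, and
the index of its multiplicative part divides the degree of the field.
-/

set_option autoImplicit false

namespace Cfsg.Agent.SuzukiGross

/-- A subgroup `M` of the multiplicative group with cofactor dividing the degree gives the field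
conditions of `GrossData` for any generator. -/
theorem field_conditions {F : Type*} [Field F] [Fintype F] {n : ℕ} (hn : 2 ≤ n)
    (hF : Fintype.card F = 2 ^ n) {ω : F} {d : ℕ} (hmd : orderOf ω * d = 2 ^ n - 1) (hdn : d ∣ n) :
    ω ≠ 0 ∧ ω ≠ 1 ∧
    (∀ (W : AddSubgroup F) (x₀ : F), x₀ ≠ 0 → x₀ ∈ W → (∀ x ∈ W, ω * x ∈ W) → ∀ x, x ∈ W) ∧
    (∀ σ τ : F ≃+* F, σ ω = τ ω → σ = τ) ∧
    (∀ σ τ : F ≃+* F, σ ω * τ ω = ω → σ = τ) ∧
    (∀ s σ τ : F ≃+* F, s ω * τ ω = ω * s (σ ω) → σ = τ) ∧
    (∀ σ : F ≃+* F, ∃ i : ℕ, ∀ x, σ x = x ^ i) ∧ 0 < orderOf ω := by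
  classical
  haveI : Fact (Nat.Prime 2) := ⟨Nat.prime_two⟩
  obtain ⟨fr, hfr, hord, hcard⟩ := AutPOmega.exists_frob 2 n (by omega) hF
  haveI : Finite (F ≃+* F) := Nat.finite_of_card_ne_zero (by omega)
  set m := orderOf ω
  have h2n : 4 ≤ 2 ^ n := by
    calc (4 : ℕ) = 2 ^ 2 := by norm_num
      _ ≤ 2 ^ n := Nat.pow_le_pow_right (by norm_num) hn
  have hmdvd : m ∣ 2 ^ n - 1 := ⟨d, hmd.symm⟩
  have hm0 : 0 < m := Nat.pos_of_ne_zero fun h => by rw [h, zero_mul] at hmd; omega
  have hω0 : ω ≠ 0 := fun h => by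
    have := pow_orderOf_eq_one ω
    rw [h, zero_pow (by rw [← h]; exact hm0.ne')] at this
    exact zero_ne_one this
  have hit : ∀ (i : ℕ) (c : F), (fr ^ i) c = c ^ 2 ^ i := by
    intro i
    induction i with
    | zero => intro c; simp
    | succ i ih => intro c; rw [pow_succ', RingAut.mul_apply, ih, hfr, ← pow_mul, ← pow_succ]
  have hall : ∀ σ : F ≃+* F, ∃ i < n, σ = fr ^ i := by
    intro σ
    have htop : Subgroup.zpowers fr = ⊤ := Subgroup.eq_top_of_card_eq _ (by
      rw [Nat.card_zpowers, hord, hcard])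
    have hmem : σ ∈ Subgroup.zpowers fr := htop ▸ Subgroup.mem_top σ
    obtain ⟨i, hi, rfl⟩ := (mem_zpowers_iff_mem_range_orderOf).1 hmem |> Finset.mem_image.1
    exact ⟨i, by rw [← hord]; exact Finset.mem_range.1 hi, rfl⟩
  have hpow : ∀ a b : ℕ, ω ^ a = ω ^ b → a ≡ b [MOD m] := fun a b h => by
    let u : Fˣ := Units.mk0 ω hω0
    have hu : orderOf u = m := (orderOf_units (y := u)).symm
    have h' : u ^ a = u ^ b := Units.ext (by simpa [u] using h)
    rw [← hu]
    exact pow_eq_pow_iff_modEq.1 h'
  obtain ⟨hP1, hP2⟩ := good (by omega) hmd hdn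
  have hprod : ∀ σ τ : F ≃+* F, σ ω * τ ω = ω → σ = τ := by
    intro σ τ h
    obtain ⟨a, ha, rfl⟩ := hall σ
    obtain ⟨b, hb, rfl⟩ := hall τ
    rw [hit, hit, ← pow_add] at h
    rw [hP1 a ha b hb (hpow _ 1 (by rw [h, pow_one]))]
  have hweight : ∀ s σ τ : F ≃+* F, s ω * τ ω = ω * s (σ ω) → σ = τ := by
    intro s σ τ h
    obtain ⟨a, ha, rfl⟩ := hall s
    obtain ⟨b, hb, rfl⟩ := hall τ
    obtain ⟨i, hi, rfl⟩ := hall σ
    rw [hit, hit, hit, hit, ← pow_add, ← pow_mul, ← pow_add] at h
    have h1 := hpow _ (1 + 2 ^ (i + a)) (h.trans (by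
      rw [add_comm 1, pow_succ, mul_comm ω]))
    rw [hP2 a ha b hb i hi (h1.trans ((pow_mod_period hmdvd (i + a)).add_left 1))]
  have haut : ∀ σ τ : F ≃+* F, σ ω = τ ω → σ = τ := fun σ τ h =>
    hweight (RingEquiv.refl F) σ τ (by simp [h])
  have hω1 : ω ≠ 1 := by
    intro h
    have h1 : fr = 1 := haut fr 1 (by rw [h, map_one, map_one])
    rw [h1, orderOf_one] at hord
    omega
  refine ⟨hω0, hω1, ?_, haut, hprod, hweight, fun σ => ?_, hm0⟩
  · intro W x₀ hx₀ hxW hW x
    have hroot : ∀ y : F, y ^ (Fintype.card F - 2) = y⁻¹ := fun y => by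
      by_cases hy : y = 0
      · subst hy; rw [inv_zero, zero_pow (by omega)]
      · refine eq_inv_of_mul_eq_one_left ?_
        rw [← pow_succ, show Fintype.card F - 2 + 1 = Fintype.card F - 1 by omega,
          FiniteField.pow_card_sub_one_eq_one y hy]
    let R : Subring F :=
      { carrier := {r | ∀ w ∈ W, r * w ∈ W}
        one_mem' := fun w hw => by rwa [one_mul]
        zero_mem' := fun w hw => by rw [zero_mul]; exact W.zero_mem
        mul_mem' := fun {r s} hr hs w hw => by rw [mul_assoc]; exact hr _ (hs w hw)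
        add_mem' := fun {r s} hr hs w hw => by rw [add_mul]; exact W.add_mem (hr w hw) (hs w hw)
        neg_mem' := fun {r} hr w hw => by rw [neg_mul]; exact W.neg_mem (hr w hw) }
    let K : Subfield F :=
      { R with inv_mem' := fun y hy => by rw [← hroot]; exact R.pow_mem hy _ }
    haveI : CharP F 2 := by
      obtain ⟨c, hc⟩ := CharP.exists F
      haveI := hc
      obtain ⟨k, hc', hk⟩ := FiniteField.card F c
      rw [hF] at hk
      have hd' : 2 ∣ c ^ (k : ℕ) := hk ▸ dvd_pow_self 2 (by omega)
      obtain rfl : 2 = c :=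
        (Nat.prime_dvd_prime_iff_eq Nat.prime_two hc').1 (Nat.prime_two.dvd_of_dvd_pow hd')
      exact hc
    haveI : Fintype K := Fintype.ofFinite K
    obtain ⟨k, -, hk⟩ := FiniteField.card K 2
    have hωK : ω ∈ K := fun w hw => hW w hw
    have h1 : ω ^ 2 ^ (k : ℕ) = ω := by
      have := congrArg Subtype.val (FiniteField.pow_card (⟨ω, hωK⟩ : K))
      rwa [hk] at this
    have h2 : n ∣ (k : ℕ) := by
      rw [← hord]
      exact orderOf_dvd_of_pow_eq_one (haut _ 1 (by rw [hit, h1]; rfl))
    have hKtop : ∀ r : F, r ∈ K := by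
      intro r
      have hle : Fintype.card F ≤ Fintype.card K := by
        rw [hF, hk]; exact Nat.pow_le_pow_right (by norm_num) (Nat.le_of_dvd k.pos h2)
      have hbij : Function.Bijective (Subtype.val : K → F) :=
        ⟨Subtype.val_injective, (Fintype.bijective_iff_injective_and_card _).2
          ⟨Subtype.val_injective, le_antisymm (Fintype.card_le_of_injective _ Subtype.val_injective) hle⟩ |>.2⟩
      obtain ⟨r', rfl⟩ := hbij.2 r
      exact r'.2
    have := hKtop (x / x₀) x₀ hxW
    rwa [div_mul_cancel₀ _ hx₀] at this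
  · obtain ⟨i, -, rfl⟩ := hall σ
    exact ⟨2 ^ i, hit i⟩

open Classical in
theorem exists_grossData {P : Type*} [Group P] [Finite P] (hp : IsPGroup 2 P)
    (hna : ∃ x y : P, x * y ≠ y * x)
    (htwo : ∃ x y : P, x ≠ y ∧ x ≠ 1 ∧ x * x = 1 ∧ y ≠ 1 ∧ y * y = 1)
    (Y : Subgroup (MulAut P)) [hsol : Group.IsSolvable Y]
    (htrans : ∀ x y : P, x ≠ 1 → x * x = 1 → y ≠ 1 → y * y = 1 → ∃ a ∈ Y, a x = y) :
    ∃ (F : Type) (_ : Field F) (_ : Fintype F) (_ : CharP F 2), Nonempty (GrossData P F) := by
  haveI := Fact.mk Nat.prime_two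
  have hfin : Finite P := inferInstance
  obtain ⟨u, u', huu', hu1, hu2, hu'1, hu'2⟩ := htwo
  have hcen : ∀ v : P, v * v = 1 → v ∈ Subgroup.center P := by
    intro v hv
    by_cases hv1 : v = 1
    · rw [hv1]; exact one_mem _
    obtain ⟨c, -, hc, hco⟩ := PGroup.exists_central_order_p hp (N := (⊤ : Subgroup P)) (fun h => hu1 (by
      have := Subgroup.mem_top u
      rwa [h, Subgroup.mem_bot] at this))
    have hc2 : c * c = 1 := by rw [← pow_two, ← hco, pow_orderOf_eq_one]
    have hc1 : c ≠ 1 := fun h => by rw [h, orderOf_one] at hco; norm_num at hco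
    obtain ⟨a, -, rfl⟩ := htrans c v hc1 hc2 hv1 hv
    rw [Subgroup.mem_center_iff]
    intro x
    rw [← a.apply_symm_apply x, ← map_mul, ← map_mul, Subgroup.mem_center_iff.1 hc]
  let V : Subgroup P :=
    { carrier := {v | v * v = 1}
      one_mem' := by simp
      mul_mem' := fun {v w} hv hw => by
        show v * w * (v * w) = 1
        calc v * w * (v * w) = v * (w * v) * w := by group
          _ = v * (v * w) * w := by rw [Subgroup.mem_center_iff.1 (hcen v hv) w]
          _ = (v * v) * (w * w) := by group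
          _ = 1 := by rw [show v * v = 1 from hv, show w * w = 1 from hw, mul_one]
      inv_mem' := fun {v} hv => by
        show v⁻¹ * v⁻¹ = 1
        rw [← mul_inv_rev, show v * v = 1 from hv, inv_one] }
  letI : CommGroup V :=
    { (inferInstance : Group V) with
      mul_comm := fun a b => Subtype.ext (Subgroup.mem_center_iff.1 (hcen b b.2) a) }
  have two : ∀ w : Additive V, 2 • w = 0 := fun w => by
    rw [two_nsmul]
    exact congrArg Additive.ofMul (Subtype.ext (Additive.toMul w).2)
  letI : Module (ZMod 2) (Additive V) := AddCommGroup.zmodModule two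
  haveI : Nontrivial (Additive V) :=
    nontrivial_of_ne (Additive.ofMul (⟨u, hu2⟩ : V)) 0 fun h =>
      hu1 (congrArg Subtype.val (congrArg Additive.toMul h))
  let res : MulAut P → Additive V → Additive V := fun a v =>
    Additive.ofMul (⟨a (Additive.toMul v : V), by
      show _ * _ = 1
      rw [← map_mul, show ((Additive.toMul v : V) : P) * (Additive.toMul v : V) = 1 from
        (Additive.toMul v : V).2, map_one]⟩ : V)
  have hres_add : ∀ a v w, res a (v + w) = res a v + res a w := fun a v w =>
    congrArg Additive.ofMul (Subtype.ext (map_mul a _ _))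
  let φ : ↥Y →* (Additive V ≃ₗ[ZMod 2] Additive V) :=
    { toFun := fun a =>
        let e : Additive V ≃+ Additive V :=
          { toFun := res a, invFun := res (a : MulAut P)⁻¹
            left_inv := fun v => congrArg Additive.ofMul
              (Subtype.ext (MulAut.inv_apply_self P (a : MulAut P) _))
            right_inv := fun v => congrArg Additive.ofMul
              (Subtype.ext (MulAut.apply_inv_self P (a : MulAut P) _))
            map_add' := hres_add a }
        { e with map_smul' := fun c v => ZMod.map_smul e.toAddMonoidHom c v }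
      map_one' := by ext v; rfl
      map_mul' := fun a b => by ext v; rfl }
  haveI : Finite (Additive V ≃ₗ[ZMod 2] Additive V) :=
    Finite.of_injective (fun f : Additive V ≃ₗ[ZMod 2] Additive V => (f : Additive V → Additive V))
      DFunLike.coe_injective
  have hX : Group.IsSolvable φ.range := solvable_of_surjective φ.rangeRestrict_surjective
  have htransX : ∀ v w : Additive V, v ≠ 0 → w ≠ 0 → ∃ x : φ.range, φ.range.subtype x v = w := by
    intro v w hv hw
    obtain ⟨a, ha, haw⟩ := htrans (Additive.toMul v : V) (Additive.toMul w : V)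
      (fun h => hv (congrArg Additive.ofMul (Subtype.ext h))) (Additive.toMul v : V).2
      (fun h => hw (congrArg Additive.ofMul (Subtype.ext h))) (Additive.toMul w : V).2
    exact ⟨⟨φ ⟨a, ha⟩, ⟨_, rfl⟩⟩, congrArg Additive.ofMul (Subtype.ext haw)⟩
  rcases Huppert.huppert (q := 2) (V := Additive V) hX φ.range.subtype
      (Subgroup.subtype_injective _) htransX with ⟨F, _, _, e, he⟩ | hexc
  swap
  · exfalso
    obtain ⟨n, hn⟩ := IsPGroup.iff_card.1 (hp.to_subgroup V)
    have hc : Nat.card (Additive V) = 2 ^ n := hn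
    have h2 : 2 ∣ Nat.card (Additive V) := by
      rw [hc]
      rcases n with _ | n
      · have := Finite.one_lt_card (α := Additive V); rw [hc] at this; norm_num at this
      · exact dvd_pow_self 2 (Nat.succ_ne_zero n)
    simp only [Set.mem_insert_iff, Set.mem_singleton_iff] at hexc
    rcases hexc with h | h | h | h | h | h <;> rw [h] at h2 <;> norm_num at h2
  -- the field
  obtain ⟨n, hn⟩ := IsPGroup.iff_card.1 (hp.to_subgroup V)
  have hF : Fintype.card F = 2 ^ n := by
    rw [← Nat.card_eq_fintype_card, ← Nat.card_congr e.toEquiv]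
    exact hn
  have h4 : 4 ≤ 2 ^ n := by
    rw [← hn]
    by_contra hlt
    haveI : Fintype V := Fintype.ofFinite V
    have h3 : ({1, ⟨u, hu2⟩, ⟨u', hu'2⟩} : Finset V).card = 3 :=
      Finset.card_eq_three.2 ⟨_, _, _, fun h => hu1 (congrArg Subtype.val h).symm,
        fun h => hu'1 (congrArg Subtype.val h).symm, fun h => huu' (congrArg Subtype.val h), rfl⟩
    have := Finset.card_le_univ ({1, ⟨u, hu2⟩, ⟨u', hu'2⟩} : Finset V)
    rw [h3, ← Nat.card_eq_fintype_card] at this
    have hle : n ≤ 1 := by
      by_contra h2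
      have := Nat.pow_le_pow_right (show 0 < 2 by norm_num) (show 2 ≤ n by omega)
      omega
    interval_cases n <;> omega
  have hn2 : 2 ≤ n := by
    by_contra h
    interval_cases n <;> omega
  haveI : CharP F 2 := by
    refine CharTwo.of_one_ne_zero_of_two_eq_zero one_ne_zero ?_
    have h := congrArg e (two (e.symm 1))
    rw [map_nsmul, map_zero, e.apply_symm_apply, two_nsmul] at h
    rw [← h, one_add_one_eq_two]
  choose α σ hσ using he
  have hα0 : ∀ x, α x ≠ 0 := by
    intro x h
    obtain ⟨v, hv⟩ : ∃ v : Additive V, v ≠ 0 := exists_ne 0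
    have h1 := hσ x v
    rw [h, zero_mul] at h1
    exact hv ((x : Additive V ≃ₗ[ZMod 2] Additive V).injective
      (by rw [map_zero]; exact e.injective (by rw [map_zero]; exact h1)))
  have hσeq : ∀ x u, σ x u = e (φ.range.subtype x (e.symm u)) / α x := fun x u => by
    rw [hσ, e.apply_symm_apply, mul_div_cancel_left₀ _ (hα0 x)]
  have hαeq : ∀ x, α x = e (φ.range.subtype x (e.symm 1)) := fun x => by
    rw [hσ, e.apply_symm_apply, map_one, mul_one]
  have hcomp : ∀ x y, α (x * y) = α x * σ x (α y) := fun x y => by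
    rw [hαeq (x * y), map_mul]
    show e ((φ.range.subtype x) ((φ.range.subtype y) (e.symm 1))) = _
    rw [hσ, hσ, e.apply_symm_apply, map_one, mul_one]
  let χ : φ.range →* (F ≃+* F) := MonoidHom.mk' σ fun x y => by
    refine RingEquiv.ext fun u => mul_left_cancel₀ (hα0 (x * y)) ?_
    have h1 := hσ (x * y) (e.symm u)
    rw [e.apply_symm_apply] at h1
    rw [← h1, map_mul, RingAut.mul_apply]
    show e ((φ.range.subtype x) ((φ.range.subtype y) (e.symm u))) = _
    rw [hσ, hσ, e.apply_symm_apply, map_mul, hcomp]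
    ring
  let ψ : χ.ker →* Fˣ := MonoidHom.mk' (fun x => Units.mk0 (α x) (hα0 x)) fun x y => by
    refine Units.ext ?_
    show α ((x : φ.range) * y) = α x * α y
    rw [hcomp, show σ x = 1 from x.2]
    rfl
  have hψ : Function.Injective ψ := by
    intro x y h
    have h1 : α x = α y := congrArg Units.val h
    refine Subtype.ext (Subtype.ext (LinearEquiv.ext fun v => e.injective ?_))
    have hx := hσ x v
    have hy := hσ y v
    rw [show σ x = 1 from x.2] at hx
    rw [show σ y = 1 from y.2, ← h1] at hy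
    exact hx.trans hy.symm
  obtain ⟨⟨_, x₀, rfl⟩, hgen⟩ := IsCyclic.exists_generator (α := ψ.range)
  set ω : F := (ψ x₀ : F)
  have hω : orderOf ω = Nat.card χ.ker := by
    rw [show ω = ((ψ x₀ : Fˣ) : F) from rfl, orderOf_units,
      ← Subgroup.orderOf_mk (ψ x₀) (show ψ x₀ ∈ ψ.range from ⟨x₀, rfl⟩), orderOf_eq_card_of_forall_mem_zpowers hgen,
      ← Nat.card_congr (MonoidHom.ofInjective hψ).toEquiv]
  -- counting
  obtain ⟨fr, hfr, hford, hfcard⟩ := AutPOmega.exists_frob 2 n (by omega) hF
  haveI : Finite (F ≃+* F) := Nat.finite_of_card_ne_zero (by omega)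
  obtain ⟨d, hd⟩ : orderOf ω ∣ 2 ^ n - 1 := by
    rw [hω, ← hF, ← Fintype.card_units, ← Nat.card_eq_fintype_card]
    exact Subgroup.card_dvd_of_injective ψ hψ
  have hdn : d ∣ n := by
    have hq : 2 ^ n - 1 ∣ Nat.card φ.range := by
      letI : MulAction φ.range (Additive V) := MulAction.ofEndHom
        { toFun := fun x => ((φ.range.subtype x : Additive V ≃ₗ[ZMod 2] Additive V) : Additive V → Additive V)
          map_one' := rfl
          map_mul' := fun x y => rfl }
      obtain ⟨v, hv⟩ : ∃ v : Additive V, v ≠ 0 := exists_ne 0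
      have horb : MulAction.orbit φ.range v = {0}ᶜ := by
        ext w
        constructor
        · rintro ⟨x, rfl⟩ (h : φ.range.subtype x v = 0)
          exact hv ((φ.range.subtype x).injective (by rw [h, map_zero]))
        · intro hw
          obtain ⟨x, hx⟩ := htransX v w hv hw
          exact ⟨x, hx⟩
      have h1 : Nat.card (MulAction.orbit φ.range v) = 2 ^ n - 1 := by
        rw [horb, Nat.card_coe_set_eq, Set.ncard_compl, Set.ncard_singleton]
        exact congrArg (· - 1) hn
      rw [← h1, ← Nat.card_congr (MulAction.orbitProdStabilizerEquivGroup φ.range v), Nat.card_prod]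
      exact dvd_mul_right _ _
    have h2 : Nat.card φ.range = Nat.card χ.ker * Nat.card χ.range := by
      rw [← Nat.card_congr (QuotientGroup.quotientKerEquivRange χ).toEquiv, mul_comm]
      exact Subgroup.card_eq_card_quotient_mul_card_subgroup _
    rw [hd, h2, ← hω] at hq
    have hpos : 0 < orderOf ω := hω ▸ Nat.card_pos
    exact (Nat.dvd_of_mul_dvd_mul_left hpos hq).trans (hfcard ▸ Subgroup.card_subgroup_dvd_card _)
  obtain ⟨hω0, hω1, hspan, haut, hprod, hweight, hfrob, hfo⟩ :=
    field_conditions hn2 hF hd.symm hdn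
  obtain ⟨g, hg⟩ := ((x₀ : χ.ker) : φ.range).2
  refine ⟨F, inferInstance, inferInstance, inferInstance, ⟨{
    g := (g : MulAut P)
    ι := fun v => if h : v * v = 1 then e (Additive.ofMul (⟨v, h⟩ : V)) else 0
    ω := ω, finite := hfin, pgroup := hp, central := hcen, ω_ne_zero := hω0, ω_ne_one := hω1
    nonabelian := hna, span := hspan, aut_ext' := haut, prodOne := hprod, weight := hweight
    frob := hfrob, finiteOrder := hfo
    ι_mul := fun v w hv hw => by
      have hvw : v * w * (v * w) = 1 := ((⟨v, hv⟩ : V) * (⟨w, hw⟩ : V)).2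
      rw [dif_pos hv, dif_pos hw, dif_pos hvw, ← map_add]
      rfl
    ι_eq_zero := fun v hv h => by
      rw [dif_pos hv] at h
      exact congrArg Subtype.val (congrArg Additive.toMul (e.map_eq_zero_iff.1 h))
    ι_surj := fun x => ⟨(Additive.toMul (e.symm x) : V), (Additive.toMul (e.symm x) : V).2, by
      rw [dif_pos (show ((Additive.toMul (e.symm x) : V) : P) * (Additive.toMul (e.symm x) : V) = 1 from
        (Additive.toMul (e.symm x) : V).2)]
      exact e.apply_symm_apply x⟩
    ι_g := fun v hv => by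
      have h' : (g : MulAut P) v * (g : MulAut P) v = 1 := by rw [← map_mul, hv, map_one]
      rw [dif_pos hv, dif_pos h']
      have h1 := hσ ((x₀ : χ.ker) : φ.range) (Additive.ofMul (⟨v, hv⟩ : V))
      rw [show σ ((x₀ : χ.ker) : φ.range) = 1 from x₀.2] at h1
      refine Eq.trans (congrArg e ?_) h1
      show _ = ((x₀ : χ.ker) : φ.range).1 (Additive.ofMul (⟨v, hv⟩ : V))
      rw [← hg]
      rfl }⟩⟩

end Cfsg.Agent.SuzukiGross
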